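import Cfsg.Agent.Lib.PGroup.MaxClassPower.Uniform

/-!
# The index of the power subgroup

`index_powers_le`: `|H : ⟨x ^ p⟩| ≤ p ^ p` for a subgroup `H` of a p-group of maximal class.
-/

set_option autoImplicit false
set_option linter.style.haveILetI false

namespace CfsgLib.PGroup.MaxClassPower

open Subgroup
open scoped commutatorElement
open CfsgLib.Fusion

universe u

variable {p : ℕ} [hp : Fact p.Prime] {G : Type u} [Group G] [Finite G] {m : ℕ}

local notation "L" => Subgroup.lowerCentralSeries (⊤ : Subgroup G)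

/-- The `p`-th powers of a subgroup. -/
def powers (p : ℕ) (H : Subgroup G) : Subgroup G := closure {y | ∃ x ∈ H, y = x ^ p}

omit hp [Finite G] in
theorem powers_le (H : Subgroup G) : powers p H ≤ H :=
  (closure_le _).2 (by rintro _ ⟨x, hx, rfl⟩; exact pow_mem hx p)

omit hp [Finite G] in
theorem powers_normal : (powers p (⊤ : Subgroup G)).Normal := by
  refine ⟨fun t ht g => ?_⟩
  have : (powers p (⊤ : Subgroup G)).map (MulAut.conj g).toMonoidHom ≤ powers p ⊤ := by
    rw [powers, MonoidHom.map_closure]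
    refine Subgroup.closure_mono ?_
    rintro _ ⟨_, ⟨x, -, rfl⟩, rfl⟩
    exact ⟨g * x * g⁻¹, mem_top _, by simp⟩
  exact this ⟨t, ht, by simp⟩

namespace IsMax

variable (h : IsMax G p m)
include h

/-- A power at level `j + (p - 1)` from an element at level `j`. -/
theorem exists_power_level {s : G} (hs : Good s (m - 3)) {A : Subgroup G} {j : ℕ} (hj : 1 ≤ j)
    (hjm : j + (p - 1) ≤ m - 2) {y : G} (hyA : y ∈ A) (hy : y ∈ L j) (hy' : y ∉ L (j + 1)) :
    ∃ z ∈ powers p A, z ∈ L (j + (p - 1)) ∧ z ∉ L (j + (p - 1) + 1) := by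
  have hp1 := hp.out.two_le
  have hI := h.ident_one hs
  refine ⟨y ^ p, subset_closure ⟨y, hyA, rfl⟩, ?_, ?_⟩
  · have h1 := h.pow_mem le_rfl hI j hj y hy
    rwa [show j + p - 1 = j + (p - 1) by omega] at h1
  · have h1 := h.pow_notMem le_rfl hI hj hy hy' (by omega) (hs.mono (by omega))
    rwa [show j + p = j + (p - 1) + 1 by omega] at h1

theorem index_top_le : (powers p (⊤ : Subgroup G)).relIndex ⊤ ≤ p ^ p := by
  have hp1 := hp.out.two_le
  have hm := h.three_le
  rw [Subgroup.relIndex_top_right]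
  set K := powers p (⊤ : Subgroup G) with hK
  haveI : K.Normal := powers_normal
  have hKcard := K.card_mul_index
  rw [h.card] at hKcard
  rcases Nat.lt_or_ge m (p + 1) with hmp | hmp
  · refine (Nat.le_of_dvd (pow_pos hp.out.pos _) (hKcard ▸ dvd_mul_left _ _)).trans ?_
    exact Nat.pow_le_pow_right hp.out.pos (by omega)
  obtain ⟨s, hs⟩ := h.exists_uniform
  -- levels from `p` on
  have hhigh : L p ≤ K := by
    suffices key : ∀ d j, p ≤ j → m - 1 ≤ j + d → L j ≤ K from key (m - 1) p le_rfl (by omega)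
    intro d
    induction d with
    | zero => intro j _ hj; rw [h.L_bot (show m - 1 ≤ j by omega)]; exact bot_le
    | succ d ih =>
      intro j hj hd
      rcases Nat.lt_or_ge (m - 2) j with hj' | hj'
      · rw [h.L_bot (show m - 1 ≤ j by omega)]; exact bot_le
      obtain ⟨y, hy, hy'⟩ := SetLike.exists_of_lt (h.L_lt (show j - (p - 1) ≤ m - 2 by omega))
      obtain ⟨z, hzK, hz, hz'⟩ := h.exists_power_level hs (A := ⊤) (j := j - (p - 1)) (by omega) (by omega)
        (mem_top y) hy hy'
      rw [show j - (p - 1) + (p - 1) = j by omega] at hz hz'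
      exact (h.layer (by omega) hj' hz hz').trans (sup_le (zpowers_le.2 hzK) (ih (j + 1) (by omega) (by omega)))
  -- some power lies outside `L p`
  obtain ⟨x, hx⟩ : ∃ x : G, x ^ p ∉ L p := by
    by_contra hall
    push Not at hall
    have hQ := h.quotient (j := p) hp1 (by omega)
    have hexp : ∀ t : G ⧸ L p, t ^ p = 1 := fun t => by
      induction t using QuotientGroup.induction_on with | _ x => ?_
      rw [← QuotientGroup.mk_pow, QuotientGroup.eq_one_iff]; exact hall x
    obtain ⟨t, ht⟩ := hQ.exists_uniform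
    obtain ⟨w, hw⟩ := hQ.exists_comm_notMem ht.1
    have hc1 : chain w t 1 ∈ Subgroup.lowerCentralSeries (⊤ : Subgroup (G ⧸ L p)) 1 := chain_mem w t 1
    have hck : ∀ k, 1 + k ≤ p + 1 - 2 → chain w t (1 + k) ∉
        Subgroup.lowerCentralSeries (⊤ : Subgroup (G ⧸ L p)) (1 + k + 1) := by
      intro k
      induction k with
      | zero => exact fun _ => hw
      | succ k ih =>
        intro hk
        exact hQ.comm_notMem (i := 1 + k) (by omega) (by omega) (ht.2 _ (by omega) (by omega))
          (chain_mem w t _) (ih (by omega))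
    have hne := hck (p - 2) (by omega)
    rw [show 1 + (p - 2) = p - 1 by omega, show p - 1 + 1 = p by omega] at hne
    have hlayer : Subgroup.lowerCentralSeries (⊤ : Subgroup (G ⧸ L p)) (p - 1) ≤
        zpowers (chain w t (p - 1)) := by
      refine (hQ.layer (by omega) (by omega) (chain_mem w t _) (by rwa [show p - 1 + 1 = p by omega])).trans
        (sup_le le_rfl ?_)
      rw [hQ.L_bot (show p + 1 - 1 ≤ p - 1 + 1 by omega)]
      exact bot_le
    refine hne ?_
    rw [chain_eq_one p hexp w t (hQ.L_bot (by omega)) hlayer]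
    exact one_mem _
  -- push it down to level `p - 1`
  obtain ⟨z, hzK, hz, hz'⟩ : ∃ z ∈ K, z ∈ L (p - 1) ∧ z ∉ L (p - 1 + 1) := by
    have step : ∀ d j, 1 ≤ j → j + d = p - 1 → (∃ z ∈ K, z ∈ L j ∧ z ∉ L (j + 1)) →
        ∃ z ∈ K, z ∈ L (p - 1) ∧ z ∉ L (p - 1 + 1) := by
      intro d
      induction d with
      | zero =>
        intro j _ hj hz
        obtain rfl : j = p - 1 := by omega
        exact hz
      | succ d ih =>
        rintro j hj1 hj ⟨z, hzK, hz, hz'⟩
        refine ih (j + 1) (by omega) (by omega) ⟨⁅z, s⁆, ?_, comm_mem_succ hz s,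
          h.comm_notMem hj1 (by omega) (hs.2 j hj1 (by omega)) hz hz'⟩
        rw [commutatorElement_def, mul_assoc, mul_assoc, ← mul_assoc s]
        exact mul_mem hzK (Subgroup.Normal.conj_mem inferInstance _ (inv_mem hzK) s)
    obtain ⟨j, hj1, hjp, hj⟩ : ∃ j, 1 ≤ j ∧ j ≤ p - 1 ∧ (x ^ p ∈ L j ∧ x ^ p ∉ L (j + 1)) := by
      classical
      have hex : ∃ j, x ^ p ∉ L j := ⟨p, hx⟩
      have h0 := Nat.find_spec hex
      have hpos : 2 ≤ Nat.find hex := by
        by_contra hlt
        rcases Nat.lt_or_ge (Nat.find hex) 1 with h1 | h1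
        · exact h0 (by rw [show Nat.find hex = 0 by omega]; exact mem_top _)
        · exact h0 (by rw [show Nat.find hex = 1 by omega]; exact h.pow_mem_L1 x)
      refine ⟨Nat.find hex - 1, by omega, by have := Nat.find_min' hex hx; omega,
        not_not.1 (Nat.find_min hex (by omega)), ?_⟩
      rwa [show Nat.find hex - 1 + 1 = Nat.find hex by omega]
    exact step (p - 1 - j) j hj1 (by omega) ⟨x ^ p, subset_closure ⟨x, mem_top x, rfl⟩, hj⟩
  have hlow : L (p - 1) ≤ K := (h.layer (by omega) (by omega) hz hz').trans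
    (sup_le (zpowers_le.2 hzK) (by rwa [show p - 1 + 1 = p by omega]))
  refine (Nat.le_of_dvd (pow_pos hp.out.pos _) ((Subgroup.index_dvd_of_le hlow).trans (dvd_of_eq ?_)))
  have h1 := (L (p - 1)).card_mul_index
  rw [h.card, h.card_L (by omega) (by omega), show m = m - 1 - (p - 1) + p by omega, pow_add] at h1
  exact Nat.eq_of_mul_eq_mul_left (pow_pos hp.out.pos _)
    (by simpa [show m - 1 - (p - 1) + p - 1 - (p - 1) = m - 1 - (p - 1) by omega] using h1)

/-- Subgroups of `L 1`, against a subgroup catching all their level powers. -/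
theorem card_le_of_levels {A K : Subgroup G} (hA : A ≤ L 1) (hKA : K ≤ A)
    (hstep : ∀ j, 1 ≤ j → j + (p - 1) ≤ m - 2 → (∃ y ∈ A, y ∈ L j ∧ y ∉ L (j + 1)) →
      ∃ z ∈ K, z ∈ L (j + (p - 1)) ∧ z ∉ L (j + (p - 1) + 1)) :
    Nat.card A ≤ p ^ (p - 1) * Nat.card K := by
  classical
  have hp1 := hp.out.two_le
  set P : Subgroup G → ℕ → Prop := fun B j => ∃ y ∈ B, y ∈ L j ∧ y ∉ L (j + 1)
  let T : ℕ → Finset ℕ := fun i => (Finset.Icc i (m - 2)).filter fun j => P A j ∧ ¬ P K j
  have hup : ∀ B : Subgroup G, ∀ i, 1 ≤ i → i ≤ m - 2 →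
      Nat.card (B ⊓ L i : Subgroup G) ≤ (if P B i then p else 1) * Nat.card (B ⊓ L (i + 1) : Subgroup G) := by
    intro B i hi hi'
    split_ifs with hP
    · have hle : (L (i + 1)).relIndex (B ⊓ L i) ≤ p := by
        refine (Subgroup.relIndex_le_of_le_right inf_le_right ?_).trans (le_of_eq ?_)
        · exact Subgroup.index_ne_zero_of_finite
        · have h1 := Subgroup.card_eq_card_quotient_mul_card_subgroup ((L (i + 1)).subgroupOf (L i))
          rw [Nat.card_congr (Subgroup.subgroupOfEquivOfLe (Subgroup.lowerCentralSeries_antitone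
            (⊤ : Subgroup G) (Nat.le_succ i))).toEquiv, h.card_L (i := i + 1) (by omega) (by omega),
            h.card_L hi (by omega), show m - 1 - i = 1 + (m - 1 - (i + 1)) by omega, pow_add, pow_one] at h1
          exact (Nat.eq_of_mul_eq_mul_right (pow_pos hp.out.pos _) h1).symm
      have h2 := Subgroup.relIndex_mul_relIndex (⊥ : Subgroup G) (B ⊓ L i ⊓ L (i + 1)) (B ⊓ L i) bot_le inf_le_left
      rw [Subgroup.relIndex_bot_left, Subgroup.relIndex_bot_left, Subgroup.inf_relIndex_left] at h2
      rw [← h2, mul_comm p, inf_assoc, inf_eq_right.2 (Subgroup.lowerCentralSeries_antitone _ (Nat.le_succ i))]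
      exact Nat.mul_le_mul_left _ hle
    · rw [one_mul]
      refine Subgroup.card_le_of_le (le_inf inf_le_left fun y hy => ?_)
      by_contra hy'
      exact hP ⟨y, hy.1, hy.2, hy'⟩
  have hdown : ∀ i, i ≤ m - 2 → P K i →
      p * Nat.card (K ⊓ L (i + 1) : Subgroup G) ≤ Nat.card (K ⊓ L i : Subgroup G) := by
    rintro i hi ⟨y, hyK, hy, hy'⟩
    refine MaxClass.card_mul_le_of_lt h.isPGroup (lt_of_le_not_ge
      (inf_le_inf_left _ (Subgroup.lowerCentralSeries_antitone _ (Nat.le_succ i))) fun e => hy' ?_)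
    exact (e ⟨hyK, hy⟩).2
  have hkey : ∀ d i, 1 ≤ i → m - 1 ≤ i + d →
      Nat.card (A ⊓ L i : Subgroup G) ≤ p ^ (T i).card * Nat.card (K ⊓ L i : Subgroup G) := by
    intro d
    induction d with
    | zero =>
      intro i hi hd
      rw [h.L_bot (show m - 1 ≤ i by omega), inf_bot_eq, inf_bot_eq]
      exact Nat.le_mul_of_pos_left _ (pow_pos hp.out.pos _)
    | succ d ih =>
      intro i hi hd
      rcases Nat.lt_or_ge (m - 2) i with hi' | hi'
      · rw [h.L_bot (show m - 1 ≤ i by omega), inf_bot_eq, inf_bot_eq]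
        exact Nat.le_mul_of_pos_left _ (pow_pos hp.out.pos _)
      have h1 := ih (i + 1) (by omega) (by omega)
      have hK1 : Nat.card (K ⊓ L (i + 1) : Subgroup G) ≤ Nat.card (K ⊓ L i : Subgroup G) :=
        Subgroup.card_le_of_le (inf_le_inf_left _ (Subgroup.lowerCentralSeries_antitone _ (Nat.le_succ i)))
      have hsub : T (i + 1) ⊆ T i :=
        Finset.filter_subset_filter _ (Finset.Icc_subset_Icc_left (Nat.le_succ i))
      have hA1 := hup A i hi hi'
      by_cases hPK : P K i
      · have hPA : P A i := by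
          obtain ⟨y, hy, hy1⟩ := hPK
          exact ⟨y, hKA hy, hy1⟩
        rw [if_pos hPA] at hA1
        refine hA1.trans ((Nat.mul_le_mul_left p h1).trans ?_)
        rw [mul_left_comm]
        exact Nat.mul_le_mul (Nat.pow_le_pow_right hp.out.pos (Finset.card_le_card hsub)) (hdown i hi' hPK)
      by_cases hPA : P A i
      · rw [if_pos hPA] at hA1
        have hins : (T (i + 1)).card + 1 ≤ (T i).card := by
          rw [← Finset.card_insert_of_notMem (a := i) (by simp [T])]
          refine Finset.card_le_card (Finset.insert_subset (by simp [T, hi', hPA, hPK]) hsub)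
        refine hA1.trans ((Nat.mul_le_mul_left p h1).trans ?_)
        rw [← mul_assoc, ← pow_succ']
        exact Nat.mul_le_mul (Nat.pow_le_pow_right hp.out.pos hins) hK1
      · rw [if_neg hPA, one_mul] at hA1
        exact hA1.trans (h1.trans (Nat.mul_le_mul (Nat.pow_le_pow_right hp.out.pos (Finset.card_le_card hsub)) hK1))
  have hT : (T 1).card ≤ p - 1 := by
    rw [← Finset.card_range (p - 1)]
    refine Finset.card_le_card_of_injOn (fun j => j % (p - 1)) (fun j _ => ?_) ?_
    · simp only [Finset.coe_range, Set.mem_Iio]; exact Nat.mod_lt _ (by omega)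
    · intro a ha b hb hab
      simp only [Finset.coe_filter, Finset.mem_Icc, Set.mem_setOf_eq, T] at ha hb
      have hprop : ∀ a b, 1 ≤ a → P A a → b ≤ m - 2 → a < b → a % (p - 1) = b % (p - 1) → P K b := by
        intro a b ha1 haA hbm hab hmod
        obtain ⟨q, hq⟩ := (Nat.modEq_iff_dvd' hab.le).1 hmod
        have hprop' : ∀ q, 1 ≤ q → a + (p - 1) * q ≤ m - 2 → P K (a + (p - 1) * q) := by
          intro q
          induction q with
          | zero => omega
          | succ q ih =>
            intro _ hq'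
            rw [show a + (p - 1) * (q + 1) = a + (p - 1) * q + (p - 1) by ring] at hq' ⊢
            rcases Nat.eq_zero_or_pos q with rfl | hq0
            · rw [mul_zero, add_zero] at hq' ⊢; exact hstep a ha1 hq' haA
            · refine hstep _ (by omega) hq' ?_
              obtain ⟨y, hy, hy1⟩ := ih hq0 (by omega)
              exact ⟨y, hKA hy, hy1⟩
        have hq0 : 1 ≤ q := by
          rcases Nat.eq_zero_or_pos q with rfl | h0
          · omega
          · exact h0
        have := hprop' q hq0 (by omega)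
        rwa [show a + (p - 1) * q = b by omega] at this
      rcases lt_trichotomy a b with hlt | heq | hlt
      · exact absurd (hprop a b ha.1.1 ha.2.1 hb.1.2 hlt hab) hb.2.2
      · exact heq
      · exact absurd (hprop b a hb.1.1 hb.2.1 ha.1.2 hlt hab.symm) ha.2.2
  have hfin := hkey (m - 1) 1 le_rfl (by omega)
  rw [inf_eq_left.2 hA, inf_eq_left.2 (hKA.trans hA)] at hfin
  exact hfin.trans (Nat.mul_le_mul_right _ (Nat.pow_le_pow_right hp.out.pos hT))

theorem index_powers_le (H : Subgroup G) : (powers p H).relIndex H ≤ p ^ p := by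
  have hp1 := hp.out.two_le
  have hm := h.three_le
  by_cases htop : H = ⊤
  · subst htop; exact h.index_top_le
  have hfr : L 1 ≤ frattini G := by
    rw [Subgroup.top_lowerCentralSeries_one, commutator_def, Subgroup.commutator_le]
    exact fun x _ y _ => CfsgLib.PGroup.Frattini.commutatorElement_mem_frattini h.isPGroup x y
  have hne : H ⊔ L 1 ≠ ⊤ := fun he => htop (frattini_nongenerating
    (top_le_iff.1 (he.ge.trans (sup_le_sup_left hfr H))))
  set A := H ⊓ L 1 with hA
  set K := powers p H with hK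
  have hKA : K ≤ A := le_inf (powers_le H) ((closure_le _).2 (by
    rintro _ ⟨x, -, rfl⟩; exact h.pow_mem_L1 x))
  obtain ⟨s, hs⟩ := h.exists_uniform
  have h1 := h.card_le_of_levels (A := A) (K := K) inf_le_right hKA fun j hj hjm ⟨y, hyA, hy, hy'⟩ => by
    obtain ⟨z, hzK, hz⟩ := h.exists_power_level hs (A := A) hj hjm hyA hy hy'
    refine ⟨z, ?_, hz⟩
    refine (closure_le _).2 ?_ hzK
    rintro _ ⟨x, hx, rfl⟩
    exact subset_closure ⟨x, hx.1, rfl⟩
  -- the layer above `L 1`
  have h2 : A.relIndex H ≤ p := by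
    rw [hA, inf_relIndex_left, ← Subgroup.relIndex_sup_right]
    have hlt : H ⊔ L 1 < ⊤ := lt_top_iff_ne_top.2 hne
    have h3 := MaxClass.card_mul_le_of_lt h.isPGroup hlt
    rw [Subgroup.card_top, h.card] at h3
    have h4 := Subgroup.relIndex_mul_relIndex (⊥ : Subgroup G) (L 1) (H ⊔ L 1) bot_le le_sup_right
    rw [Subgroup.relIndex_bot_left, Subgroup.relIndex_bot_left, h.card_L le_rfl (by omega)] at h4
    refine Nat.le_of_mul_le_mul_left (c := p * p ^ (m - 1 - 1)) ?_ (by positivity)
    rw [mul_assoc, h4]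
    refine h3.trans (le_of_eq ?_)
    rw [mul_comm (p * p ^ (m - 1 - 1)), ← pow_succ', ← pow_succ']
    congr 1
    omega
  have h5 : K.relIndex A ≤ p ^ (p - 1) := by
    have h6 := Subgroup.relIndex_mul_relIndex (⊥ : Subgroup G) K A bot_le hKA
    rw [Subgroup.relIndex_bot_left, Subgroup.relIndex_bot_left] at h6
    rw [← h6, mul_comm (Nat.card K)] at h1
    exact Nat.le_of_mul_le_mul_right h1 Nat.card_pos
  rw [← Subgroup.relIndex_mul_relIndex K A H hKA inf_le_left]
  refine (Nat.mul_le_mul h5 h2).trans (le_of_eq ?_)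
  rw [← pow_succ, Nat.sub_add_cancel hp.out.pos]

end IsMax

end CfsgLib.PGroup.MaxClassPower
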