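import Cfsg.Agent.Lib.PGroup.MaxClassPower.HallPetrescu

/-!
# The formula and the Engel identity

`exists_const` and `chain_eq_one`, proved in the free group on two letters; the constant is seen to
be prime to `p` in the wreath product of two groups of order `p`.
-/

set_option autoImplicit false
set_option linter.style.haveILetI false

namespace CfsgLib.PGroup.MaxClassPower

open Subgroup
open scoped commutatorElement

universe u

/-! ### The wreath product -/

section Model

variable (p : ℕ)

/-- The base of the wreath product. -/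
abbrev Base : Type := Multiplicative (ZMod p → ZMod p)

/-- Shifting coordinates. -/
def shift : Multiplicative (ZMod p) →* MulAut (Base p) where
  toFun t :=
    { toFun := fun f => Multiplicative.ofAdd fun i => Multiplicative.toAdd f (i + t.toAdd)
      invFun := fun f => Multiplicative.ofAdd fun i => Multiplicative.toAdd f (i - t.toAdd)
      left_inv := fun f => by apply Multiplicative.toAdd.injective; funext i; simp
      right_inv := fun f => by apply Multiplicative.toAdd.injective; funext i; simp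
      map_mul' := fun f g => rfl }
  map_one' := by
    ext f i; simp
  map_mul' a b := by
    ext f i
    simp [MulAut.mul_apply, add_assoc]

/-- The wreath product of two groups of order `p`. -/
abbrev Wr : Type := Base p ⋊[shift p] Multiplicative (ZMod p)

/-- A generator of the base. -/
def wy : Wr p := SemidirectProduct.inl (Multiplicative.ofAdd fun i => if i = 0 then 1 else 0)

/-- The shift. -/
def ws : Wr p := SemidirectProduct.inr (Multiplicative.ofAdd 1)

variable {p} [Fact p.Prime]

theorem base_pow_prime (f : Base p) : f ^ p = 1 := by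
  apply Multiplicative.toAdd.injective
  funext i
  simp

theorem ys_pow (k : ℕ) :
    (∀ i, Multiplicative.toAdd ((wy p * ws p) ^ k).left i =
      ∑ j ∈ Finset.range k, (if i + (j : ZMod p) = 0 then 1 else 0)) ∧
    Multiplicative.toAdd ((wy p * ws p) ^ k).right = k := by
  induction k with
  | zero => simp
  | succ k ih =>
    constructor
    · intro i
      rw [pow_succ, SemidirectProduct.mul_left, toAdd_mul, Pi.add_apply, ih.1 i, Finset.sum_range_succ]
      congr 1
      simp only [shift, MonoidHom.coe_mk, OneHom.coe_mk, MulEquiv.coe_mk, Equiv.coe_fn_mk, toAdd_ofAdd, ih.2]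
      simp [wy, ws]
    · rw [pow_succ, SemidirectProduct.mul_right, toAdd_mul, ih.2]
      simp [wy, ws]

theorem wr_card : Nat.card (Wr p) = p ^ (p + 1) := by
  rw [SemidirectProduct.card, Nat.card_congr Multiplicative.toAdd, Nat.card_congr Multiplicative.toAdd,
    Nat.card_fun, Nat.card_zmod, pow_succ]

theorem wr_lcs : Subgroup.lowerCentralSeries (⊤ : Subgroup (Wr p)) p = ⊥ := by
  haveI : NeZero p := ⟨(Fact.out : p.Prime).ne_zero⟩
  haveI : Finite (Wr p) := Finite.of_equiv (Base p × Multiplicative (ZMod p)) SemidirectProduct.equivProd.symm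
  haveI := (IsPGroup.of_card (wr_card (p := p))).isNilpotent
  refine Subgroup.lowerCentralSeries_eq_bot_iff_nilpotencyClass_le.mpr ?_
  have := CfsgLib.Fusion.MaxClass.class_le (p := p) (show 2 ≤ p + 1 by have := (Fact.out : p.Prime).two_le; omega) wr_card
  omega

theorem wr_word (x₀ : Bool) : ∀ l : List Bool,
    ((1 ≤ (x₀ :: l).count true ∨ l ≠ []) → (word (wy p) (ws p) x₀ l).right = 1) ∧
    (2 ≤ (x₀ :: l).count true → word (wy p) (ws p) x₀ l = 1) := by
  intro l
  induction l with
  | nil => cases x₀ <;> simp [word, letter, wy]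
  | cons x l ih =>
    have hR : (word (wy p) (ws p) x₀ (x :: l)).right = 1 := by
      show SemidirectProduct.rightHom (word (wy p) (ws p) x₀ (x :: l)) = 1
      rw [word, map_commutatorElement, commutatorElement_eq_one_iff_mul_comm, mul_comm]
    refine ⟨fun _ => hR, fun h2 => ?_⟩
    cases x
    · rw [word, ih.2 (by simpa [List.count_cons] using h2), commutatorElement_one_left]
    · have h1 : 1 ≤ (x₀ :: l).count true := by
        simp only [List.count_cons] at h2 ⊢
        simp at h2 ⊢
        omega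
      have hr := ih.1 (Or.inl h1)
      have hwy : letter (wy p) (ws p) true = wy p := rfl
      rw [word, hwy, commutatorElement_eq_one_iff_mul_comm]
      refine SemidirectProduct.ext ?_ ?_
      · rw [SemidirectProduct.mul_left, SemidirectProduct.mul_left, hr,
          show (wy p).right = 1 from rfl, map_one, MulAut.one_apply, MulAut.one_apply, mul_comm]
      · exact mul_comm _ _

theorem ys_pow_prime_ne : (ws p ^ p)⁻¹ * (wy p ^ p)⁻¹ * (wy p * ws p) ^ p ≠ 1 := by
  have hs : ws p ^ p = 1 := by
    rw [ws, ← map_pow, show (Multiplicative.ofAdd (1 : ZMod p)) ^ p = 1 from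
      Multiplicative.toAdd.injective (by simp), map_one]
  have hy : wy p ^ p = 1 := by rw [wy, ← map_pow, base_pow_prime, map_one]
  rw [hs, hy, inv_one, one_mul, one_mul]
  intro h
  have h1 := (ys_pow (p := p) p).1 0
  rw [h] at h1
  simp only [SemidirectProduct.one_left, toAdd_one, Pi.zero_apply, zero_add] at h1
  have hp := (Fact.out : p.Prime)
  rw [Finset.sum_eq_single 0] at h1
  · simp at h1
  · intro j hj hj0
    rw [if_neg]
    rw [ZMod.natCast_eq_zero_iff]
    exact fun hd => hj0 (Nat.eq_zero_of_dvd_of_lt hd (Finset.mem_range.1 hj))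
  · intro h0
    exact absurd (Finset.mem_range.2 hp.pos) h0

end Model

/-! ### The constant -/

local notation "F₂" => FreeGroup Bool
local notation "Y₀" => (FreeGroup.of true : FreeGroup Bool)
local notation "S₀" => (FreeGroup.of false : FreeGroup Bool)

variable (p : ℕ)

/-- What is discarded in the free group. -/
def junk : Set F₂ :=
  ((fun x => x ^ p) '' ((⁅(⊤ : Subgroup F₂), (⊤ : Subgroup F₂)⁆ : Subgroup F₂) : Set F₂)) ∪
    {w | ∃ (x₀ : Bool) (l : List Bool), l.length = p - 1 ∧ 2 ≤ (x₀ :: l).count true ∧ w = word Y₀ S₀ x₀ l} ∪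
    (Subgroup.lowerCentralSeries (⊤ : Subgroup F₂) p : Set F₂)

theorem free_gen : closure ({Y₀, S₀} : Set F₂) = ⊤ := by
  rw [← FreeGroup.closure_range_of]
  congr 1
  ext x
  constructor
  · rintro (rfl | rfl) <;> exact ⟨_, rfl⟩
  · rintro ⟨b, rfl⟩; cases b <;> simp

variable [hp : Fact p.Prime]

theorem decomp : ∃ N : ℤ, ∃ m ∈ closure (junk p),
    (S₀ ^ p)⁻¹ * (Y₀ ^ p)⁻¹ * (Y₀ * S₀) ^ p = m * chain Y₀ S₀ (p - 1) ^ N := by
  have hp1 := hp.out.two_le
  set LF := fun k => Subgroup.lowerCentralSeries (⊤ : Subgroup F₂) k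
  -- reduction modulo the powers
  let π := QuotientGroup.mk' (LF (p - 1))
  have hsurj : Function.Surjective π := QuotientGroup.mk'_surjective _
  have htop : (⊤ : Subgroup F₂).map π = ⊤ := Subgroup.map_top_of_surjective _ hsurj
  have hcl : Subgroup.lowerCentralSeries (⊤ : Subgroup (F₂ ⧸ LF (p - 1))) (p - 1) = ⊥ := by
    rw [← htop, ← Subgroup.map_lowerCentralSeries, Subgroup.map_eq_bot_iff, QuotientGroup.ker_mk']
  obtain ⟨c, hc, hce⟩ := pow_mul_of_class_lt hcl (π Y₀) (π S₀)
  obtain ⟨π₀, hπ₀, hπc⟩ : c ∈ (Subgroup.closure ((fun x => x ^ p) '' ((⁅(⊤ : Subgroup F₂), (⊤ : Subgroup F₂)⁆ :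
      Subgroup F₂) : Set F₂))).map π := by
    rw [MonoidHom.map_closure, Set.image_image]
    refine (Subgroup.closure_mono ?_) hc
    rintro _ ⟨x, hx, rfl⟩
    rw [← htop, ← Subgroup.map_commutator] at hx
    obtain ⟨x', hx', rfl⟩ := hx
    exact ⟨x', hx', map_pow π x' p⟩
  set E := (S₀ ^ p)⁻¹ * (Y₀ ^ p)⁻¹ * (Y₀ * S₀) ^ p
  have hτ : π₀⁻¹ * E ∈ LF (p - 1) := by
    refine (QuotientGroup.eq_one_iff _).1 (?_ : π _ = 1)
    simp only [E, map_mul, map_inv, map_pow]
    rw [hπc, hce]
    group
  -- the weight `p` layer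
  have hword : LF (p - 1) ≤ closure (junk p ∪ {chain Y₀ S₀ (p - 1)}) := by
    refine (lcs_le_words free_gen (p - 1)).trans ((closure_le _).2 ?_)
    rintro w (⟨x₀, l, hl, rfl⟩ | hw)
    · by_cases h2 : 2 ≤ (x₀ :: l).count true
      · exact subset_closure (Or.inl (Or.inl (Or.inr ⟨x₀, l, hl, h2, rfl⟩)))
      · have hl0 : l ≠ [] := by rintro rfl; simp at hl; omega
        have h := word_mem_chain Y₀ S₀ x₀ l hl0 (by omega)
        rw [hl, show p - 1 + 1 = p by omega] at h
        refine closure_mono ?_ h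
        rintro z (rfl | hz)
        · exact Or.inr rfl
        · exact Or.inl (Or.inr hz)
    · rw [show p - 1 + 1 = p by omega] at hw
      exact subset_closure (Or.inl (Or.inr hw))
  -- the junk absorbs commutators with the chain
  set C := chain Y₀ S₀ (p - 1)
  have hE : E ∈ closure (junk p ∪ {C}) := by
    rw [← mul_inv_cancel_left π₀ E]
    exact mul_mem (closure_mono (fun z hz => Or.inl (Or.inl (Or.inl hz))) hπ₀) (hword hτ)
  have hcomm : ∀ g : F₂, ⁅g, C⁆ ∈ closure (junk p) := fun g => by
    refine subset_closure (Or.inr ?_)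
    have h := commutator_mem_commutator (chain_mem Y₀ S₀ (p - 1)) (mem_top g)
    rw [← Subgroup.lowerCentralSeries_succ, show p - 1 + 1 = p by omega] at h
    rw [← commutatorElement_inv]
    exact inv_mem h
  have hmove : ∀ (N : ℤ) (m : F₂), m ∈ closure (junk p) → C ^ N * m * (C ^ N)⁻¹ ∈ closure (junk p) := by
    intro N m hm
    have h1 : ⁅m, C ^ N⁆ ∈ closure (junk p) := by
      have hn : (⁅m, C ^ N⁆) ∈ Subgroup.lowerCentralSeries (⊤ : Subgroup F₂) p := by
        have h := commutator_mem_commutator (zpow_mem (chain_mem Y₀ S₀ (p - 1)) N) (mem_top m)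
        rw [← Subgroup.lowerCentralSeries_succ, show p - 1 + 1 = p by omega] at h
        rw [← commutatorElement_inv]
        exact inv_mem h
      exact subset_closure (Or.inr hn)
    rw [show C ^ N * m * (C ^ N)⁻¹ = ⁅m, C ^ N⁆⁻¹ * m by simp only [commutatorElement_def]; group]
    exact mul_mem (inv_mem h1) hm
  clear_value C
  suffices h : ∀ z ∈ closure (junk p ∪ {C}), ∃ N : ℤ, ∃ m ∈ closure (junk p), z = m * C ^ N from h E hE
  intro z hz
  induction hz using Subgroup.closure_induction with
  | mem w hw =>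
    rcases hw with hw | rfl
    · exact ⟨0, w, subset_closure hw, by rw [zpow_zero, mul_one]⟩
    · exact ⟨1, 1, one_mem _, by rw [zpow_one, one_mul]⟩
  | one => exact ⟨0, 1, one_mem _, by rw [zpow_zero, one_mul]⟩
  | mul a b _ _ ha hb =>
    obtain ⟨N₁, m₁, hm₁, rfl⟩ := ha
    obtain ⟨N₂, m₂, hm₂, rfl⟩ := hb
    exact ⟨N₁ + N₂, m₁ * (C ^ N₁ * m₂ * (C ^ N₁)⁻¹), mul_mem hm₁ (hmove N₁ m₂ hm₂), by group⟩
  | inv a _ ha =>
    obtain ⟨N₁, m₁, hm₁, rfl⟩ := ha
    exact ⟨-N₁, C ^ (-N₁) * m₁⁻¹ * (C ^ (-N₁))⁻¹, hmove _ _ (inv_mem hm₁), by group⟩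

/-- The constant of the formula. -/
noncomputable def hpConst : ℤ := (decomp p).choose

theorem hpConst_spec : ∃ m ∈ closure (junk p),
    (S₀ ^ p)⁻¹ * (Y₀ ^ p)⁻¹ * (Y₀ * S₀) ^ p = m * chain Y₀ S₀ (p - 1) ^ hpConst p :=
  (decomp p).choose_spec

/-- Evaluation. -/
theorem eval_spec {G : Type u} [Group G] (y s : G) :
    ∃ m ∈ closure (junk p), (s ^ p)⁻¹ * (y ^ p)⁻¹ * (y * s) ^ p =
      FreeGroup.lift (fun b => bif b then y else s) m * chain y s (p - 1) ^ hpConst p := by
  obtain ⟨m, hm, he⟩ := hpConst_spec p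
  refine ⟨m, hm, ?_⟩
  have h := congrArg (FreeGroup.lift (fun b => bif b then y else s)) he
  simpa [map_chain] using h

theorem not_dvd_hpConst : ¬ (p : ℤ) ∣ hpConst p := by
  intro hd
  obtain ⟨m, hm, he⟩ := eval_spec p (wy p) (ws p)
  set f := FreeGroup.lift (fun b => bif b then wy p else ws p) with hf
  have hm1 : f m = 1 := by
    refine (closure_le (MonoidHom.ker f)).2 ?_ hm
    rintro w ((⟨x, hx, rfl⟩ | ⟨x₀, l, -, h2, rfl⟩) | hw)
    · show f (x ^ p) = 1
      have h1 : ⁅(⊤ : Subgroup (Wr p)), (⊤ : Subgroup (Wr p))⁆ ≤ (SemidirectProduct.rightHom).ker :=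
        commutator_le.2 fun a _ b _ => by
          rw [MonoidHom.mem_ker, map_commutatorElement, commutatorElement_eq_one_iff_mul_comm, mul_comm]
      have hfx : f x ∈ (SemidirectProduct.rightHom (φ := shift p)).ker := h1 (by
        have h2 := Subgroup.mem_map_of_mem f hx
        rw [Subgroup.map_commutator] at h2
        exact commutator_mono le_top le_top h2)
      rw [← SemidirectProduct.range_inl_eq_ker_rightHom] at hfx
      obtain ⟨v, hv⟩ := hfx
      rw [map_pow, ← hv, ← map_pow, base_pow_prime, map_one]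
    · show f _ = 1
      rw [map_word, hf, FreeGroup.lift_apply_of, FreeGroup.lift_apply_of]
      exact (wr_word x₀ l).2 h2
    · show f w = 1
      have h2 := Subgroup.mem_map_of_mem f hw
      rw [Subgroup.map_lowerCentralSeries] at h2
      have h3 : f w ∈ Subgroup.lowerCentralSeries (⊤ : Subgroup (Wr p)) p :=
        Subgroup.lowerCentralSeries_mono p (le_top : (⊤ : Subgroup F₂).map f ≤ ⊤) h2
      rwa [wr_lcs, mem_bot] at h3
  rw [hm1, one_mul] at he
  refine ys_pow_prime_ne (he.trans ?_)
  have hc : chain (wy p) (ws p) (p - 1) ^ p = 1 := by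
    have h1 : (chain (wy p) (ws p) (p - 1)).right = 1 := by
      obtain ⟨k, hk⟩ : ∃ k, p - 1 = k + 1 := ⟨p - 2, by have := hp.out.two_le; omega⟩
      rw [hk]
      show SemidirectProduct.rightHom (chain (wy p) (ws p) (k + 1)) = 1
      rw [chain, map_commutatorElement, commutatorElement_eq_one_iff_mul_comm, mul_comm]
    rw [show chain (wy p) (ws p) (p - 1) = SemidirectProduct.inl (chain (wy p) (ws p) (p - 1)).left from
      SemidirectProduct.ext rfl h1, ← map_pow, base_pow_prime, map_one]
  exact zpow_eq_one_of_dvd' hc hd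
where
  zpow_eq_one_of_dvd' {x : Wr p} (hx : x ^ p = 1) {n : ℤ} (hn : (p : ℤ) ∣ n) : x ^ n = 1 := by
    obtain ⟨j, rfl⟩ := hn
    rw [zpow_mul, zpow_natCast, hx, one_zpow]

/-- The formula: modulo a normal subgroup containing the junk. -/
theorem formula {G : Type u} [Group G] (y s : G) (M : Subgroup G)
    (hpow : ∀ x ∈ ⁅closure ({y, s} : Set G), closure ({y, s} : Set G)⁆, x ^ p ∈ M)
    (hlcs : Subgroup.lowerCentralSeries (closure ({y, s} : Set G)) p ≤ M)
    (hword : ∀ (x₀ : Bool) (l : List Bool), l.length = p - 1 → 2 ≤ (x₀ :: l).count true →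
      word y s x₀ l ∈ M) :
    (s ^ p)⁻¹ * (y ^ p)⁻¹ * (y * s) ^ p * (chain y s (p - 1) ^ hpConst p)⁻¹ ∈ M := by
  obtain ⟨m, hm, he⟩ := eval_spec p y s
  rw [he, mul_inv_cancel_right]
  set f := FreeGroup.lift (fun b => bif b then y else s) with hf
  refine (closure_le (M.comap f)).2 ?_ hm
  rintro w ((⟨x, hx, rfl⟩ | ⟨x₀, l, hl, h2, rfl⟩) | hw)
  · show f (x ^ p) ∈ M
    rw [map_pow]
    refine hpow _ ?_
    have h2 := Subgroup.mem_map_of_mem f hx
    rw [Subgroup.map_commutator, ← free_gen, MonoidHom.map_closure, Set.image_pair] at h2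
    simpa [hf] using h2
  · show f _ ∈ M
    rw [map_word, hf, FreeGroup.lift_apply_of, FreeGroup.lift_apply_of]
    exact hword x₀ l hl h2
  · show f w ∈ M
    have h2 := Subgroup.mem_map_of_mem f hw
    rw [Subgroup.map_lowerCentralSeries, ← free_gen, MonoidHom.map_closure, Set.image_pair] at h2
    refine hlcs ?_
    simpa [hf] using h2

open Polynomial in
/-- The Engel identity in a group of exponent `p`. -/
theorem chain_eq_one {G : Type u} [Group G] (hexp : ∀ x : G, x ^ p = 1) (y s : G)
    (hlcs : Subgroup.lowerCentralSeries (⊤ : Subgroup G) p = ⊥)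
    (hlayer : Subgroup.lowerCentralSeries (⊤ : Subgroup G) (p - 1) ≤ zpowers (chain y s (p - 1))) :
    chain y s (p - 1) = 1 := by
  by_contra hne
  set c := chain y s (p - 1) with hc
  have hord : orderOf c = p := orderOf_eq_prime (hexp c) hne
  obtain ⟨m, hm, he⟩ := hpConst_spec p
  have hp1 := hp.out.two_le
  let f : ℕ → (F₂ →* G) := fun a => FreeGroup.lift (fun b => bif b then y ^ a else s)
  have hcount : ∀ (x₀ : Bool) (l : List Bool), l.length = p - 1 → (x₀ :: l).count true ≤ p := by
    intro x₀ l hl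
    have := List.count_le_length (a := true) (l := x₀ :: l)
    simp only [List.length_cons] at this
    omega
  have hscale : ∀ (a : ℕ) (x₀ : Bool) (l : List Bool), l.length = p - 1 →
      f a (word Y₀ S₀ x₀ l) = word y s x₀ l ^ a ^ (x₀ :: l).count true := by
    intro a x₀ l hl
    have h := word_scale y s a x₀ l
    rw [hl, show p - 1 + 1 = p by omega, hlcs, mem_bot, inv_mul_eq_one] at h
    rw [map_word]
    simpa [f] using h.symm
  have hP : ∀ z ∈ closure (junk p), ∃ P : ℤ[X], P.natDegree < p ∧ P.coeff 0 = 0 ∧ P.coeff 1 = 0 ∧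
      ∀ a : ℕ, f a z = c ^ P.eval (a : ℤ) := by
    intro z hz
    induction hz using Subgroup.closure_induction with
    | mem w hw =>
      rcases hw with (⟨x, -, rfl⟩ | ⟨x₀, l, hl, h2, rfl⟩) | hw
      · exact ⟨0, by simpa using hp.out.pos, by simp, by simp, fun a => by simp [map_pow, hexp]⟩
      · rcases (hcount x₀ l hl).lt_or_eq with hd | hd
        · obtain ⟨n, hn⟩ := mem_zpowers_iff.1 (hlayer (hl ▸ word_mem y s x₀ l))
          refine ⟨C n * X ^ (x₀ :: l).count true, (natDegree_C_mul_X_pow_le _ _).trans_lt hd, ?_, ?_, fun a => ?_⟩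
          · rw [coeff_C_mul_X_pow, if_neg (by omega)]
          · rw [coeff_C_mul_X_pow, if_neg (by omega)]
          · rw [hscale a x₀ l hl, ← hn, ← zpow_natCast, ← zpow_mul]
            simp
        · refine ⟨0, by simpa using hp.out.pos, by simp, by simp, fun a => ?_⟩
          have hall : ∀ z ∈ x₀ :: l, z = true := by
            have : (x₀ :: l).count true = (x₀ :: l).length := by rw [hd, List.length_cons, hl]; omega
            exact fun z hz => (List.count_eq_length.1 this z hz).symm
          have hx0 : x₀ = true := hall x₀ (by simp)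
          rw [hscale a x₀ l hl, word_eq_one y s x₀ l (by rintro rfl; simp at hl; omega)
            (fun z hz => hx0 ▸ hall z (List.mem_cons_of_mem _ hz))]
          simp
      · refine ⟨0, by simpa using hp.out.pos, by simp, by simp, fun a => ?_⟩
        have h2 := Subgroup.mem_map_of_mem (f a) hw
        rw [Subgroup.map_lowerCentralSeries] at h2
        have h3 : f a w ∈ Subgroup.lowerCentralSeries (⊤ : Subgroup G) p :=
          Subgroup.lowerCentralSeries_mono p (le_top : (⊤ : Subgroup F₂).map (f a) ≤ ⊤) h2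
        rw [hlcs, mem_bot] at h3
        rw [h3]; simp
    | one => exact ⟨0, by simpa using hp.out.pos, by simp, by simp, fun a => by simp⟩
    | mul a b _ _ ha hb =>
      obtain ⟨P, hP1, hP2, hP3, hP4⟩ := ha
      obtain ⟨Q, hQ1, hQ2, hQ3, hQ4⟩ := hb
      exact ⟨P + Q, (natDegree_add_le P Q).trans_lt (max_lt hP1 hQ1), by simp [hP2, hQ2], by simp [hP3, hQ3],
        fun t => by rw [map_mul, hP4, hQ4, ← zpow_add, eval_add]⟩
    | inv a _ ha =>
      obtain ⟨P, hP1, hP2, hP3, hP4⟩ := ha
      exact ⟨-P, by rwa [natDegree_neg], by simp [hP2], by simp [hP3],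
        fun t => by rw [map_inv, hP4, ← zpow_neg, eval_neg]⟩
  obtain ⟨P, hP1, hP2, hP3, hP4⟩ := hP m hm
  set Q : ℤ[X] := P + C (hpConst p) * X
  have hvanish : ∀ a : ℕ, (p : ℤ) ∣ Q.eval (a : ℤ) := by
    intro a
    have h := congrArg (f a) he
    rw [map_mul (f a) m, map_zpow, map_chain, hP4] at h
    simp only [map_mul, map_inv, map_pow, hexp, inv_one, mul_one, f, FreeGroup.lift_apply_of,
      cond_true, cond_false] at h
    have hch : chain (y ^ a) s (p - 1) = c ^ (a : ℤ) := by
      have h1 := word_scale y s a true (List.replicate (p - 1) false)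
      have hw : ∀ (z : G) (k : ℕ), word z s true (List.replicate k false) = chain z s k := fun z k => by
        induction k with
        | zero => rfl
        | succ k ih => rw [List.replicate_succ, word, ih]; rfl
      rw [List.length_replicate, show p - 1 + 1 = p by omega, hlcs, mem_bot, inv_mul_eq_one, hw, hw] at h1
      rw [zpow_natCast, ← h1]
      simp [List.count_cons, List.count_replicate, hc]
    rw [hch, ← zpow_mul, ← zpow_add] at h
    rw [← hord, orderOf_dvd_iff_zpow_eq_one]
    have hev : Q.eval (a : ℤ) = P.eval (a : ℤ) + (a : ℤ) * hpConst p := by simp [Q, mul_comm]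
    rw [hev]
    exact h.symm
  have hQ0 : Q.map (Int.castRingHom (ZMod p)) = 0 := by
    refine eq_zero_of_natDegree_lt_card_of_eval_eq_zero _ (f := fun x : ZMod p => x) (fun a b h => h) (fun x => ?_) ?_
    · obtain ⟨a, rfl⟩ : ∃ a : ℕ, (a : ZMod p) = x := ⟨x.val, ZMod.natCast_zmod_val x⟩
      rw [show ((a : ℕ) : ZMod p) = Int.castRingHom (ZMod p) (a : ℤ) by simp, eval_map, eval₂_at_apply]
      simpa using (ZMod.intCast_zmod_eq_zero_iff_dvd _ _).2 (hvanish a)
    · rw [ZMod.card]
      refine natDegree_map_le.trans_lt ((natDegree_add_le _ _).trans_lt (max_lt hP1 ?_))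
      exact ((natDegree_C_mul_le _ _).trans natDegree_X_le).trans_lt hp.out.one_lt
  have h1 := congrArg (fun T : (ZMod p)[X] => T.coeff 1) hQ0
  simp [Q, hP3] at h1
  exact not_dvd_hpConst p ((ZMod.intCast_zmod_eq_zero_iff_dvd _ _).1 h1)

end CfsgLib.PGroup.MaxClassPower
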