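import Cfsg.Agent.Lib.PGroup.PolySeq
import Cfsg.Agent.Lib.Fusion.MaxClass

/-!
# The linear term of the Hall–Petrescu formula in weight `p`

`exists_const`: modulo `p`-th powers of the derived subgroup, `γ_{p+1}` and the weight `p` commutators
with two entries `y`, the element `(s^p)⁻¹(y^p)⁻¹(ys)^p` is a power, prime to `p`, of `[y, s, …, s]`.
`chain_eq_one`: the Engel identity in exponent `p` groups.
Indices of lower central series start at zero.
-/

set_option autoImplicit false
set_option linter.style.haveILetI false

namespace CfsgLib.PGroup.MaxClassPower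

open Subgroup
open scoped commutatorElement

universe u v

variable {G : Type u} [Group G]

local notation "L" => Subgroup.lowerCentralSeries (⊤ : Subgroup G)

/-- Iterated commutators `[y, s, …, s]`. -/
def chain (y s : G) : ℕ → G
  | 0 => y
  | k + 1 => ⁅chain y s k, s⁆

/-- A letter. -/
def letter (y s : G) (b : Bool) : G := bif b then y else s

/-- The left normed commutator of a word, read from the end. -/
def word (y s : G) (x₀ : Bool) : List Bool → G
  | [] => letter y s x₀
  | x :: l => ⁅word y s x₀ l, letter y s x⁆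

theorem chain_mem (y s : G) : ∀ k, chain y s k ∈ L k := by
  intro k
  induction k with
  | zero => exact mem_top _
  | succ k ih => rw [Subgroup.lowerCentralSeries_succ]; exact commutator_mem_commutator ih (mem_top _)

theorem word_mem (y s : G) (x₀ : Bool) : ∀ l : List Bool, word y s x₀ l ∈ L l.length := by
  intro l
  induction l with
  | nil => exact mem_top _
  | cons x l ih =>
    rw [List.length_cons, Subgroup.lowerCentralSeries_succ]
    exact commutator_mem_commutator ih (mem_top _)

theorem map_chain {H : Type v} [Group H] (f : G →* H) (y s : G) :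
    ∀ k, f (chain y s k) = chain (f y) (f s) k := by
  intro k
  induction k with
  | zero => rfl
  | succ k ih => rw [chain, map_commutatorElement, ih]; rfl

theorem map_word {H : Type v} [Group H] (f : G →* H) (y s : G) (x₀ : Bool) :
    ∀ l, f (word y s x₀ l) = word (f y) (f s) x₀ l := by
  intro l
  induction l with
  | nil => cases x₀ <;> rfl
  | cons x l ih => rw [word, map_commutatorElement, ih]; cases x <;> rfl

/-- Words in a single letter are trivial. -/
theorem word_eq_one (y s : G) (x₀ : Bool) :
    ∀ l : List Bool, l ≠ [] → (∀ x ∈ l, x = x₀) → word y s x₀ l = 1 := by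
  intro l
  induction l with
  | nil => intro h; exact absurd rfl h
  | cons x l ih =>
    intro _ h
    rcases eq_or_ne l [] with rfl | hl
    · rw [word, word, h x (by simp), commutatorElement_self]
    · rw [word, ih hl (fun z hz => h z (List.mem_cons_of_mem _ hz)), commutatorElement_one_left]

theorem mul_comm_left (u v g : G) : ⁅u * v, g⁆ = u * ⁅v, g⁆ * u⁻¹ * ⁅u, g⁆ := by
  simp only [commutatorElement_def]; group

theorem inv_comm_left (u g : G) : ⁅u⁻¹, g⁆ = u⁻¹ * ⁅u, g⁆⁻¹ * u⁻¹⁻¹ := by
  simp only [commutatorElement_def]; group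

theorem mul_comm_right (u g h : G) : ⁅u, g * h⁆ = ⁅u, g⁆ * (g * ⁅u, h⁆ * g⁻¹) := by
  simp only [commutatorElement_def]; group

theorem inv_comm_right (u g : G) : ⁅u, g⁻¹⁆ = g⁻¹ * ⁅u, g⁆⁻¹ * g⁻¹⁻¹ := by
  simp only [commutatorElement_def]; group

/-- A subgroup between consecutive terms of the series is normal. -/
theorem normal_of_between {k : ℕ} {T : Subgroup G} (h1 : L (k + 1) ≤ T) (h2 : T ≤ L k) : T.Normal := by
  refine ⟨fun t ht g => ?_⟩
  have hc : ⁅g, t⁆ ∈ T := h1 (by
    rw [← commutatorElement_inv, Subgroup.lowerCentralSeries_succ]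
    exact inv_mem (commutator_mem_commutator (h2 ht) (mem_top g)))
  rw [show g * t * g⁻¹ = ⁅g, t⁆ * t by simp [commutatorElement_def]]
  exact mul_mem hc ht

/-- Commutators with `x` of elements generated by `S`, modulo a normal subgroup. -/
theorem comm_left_mem {T : Subgroup G} [T.Normal] (x : G) {S : Set G} (hS : ∀ w ∈ S, ⁅w, x⁆ ∈ T)
    {u : G} (hu : u ∈ closure S) : ⁅u, x⁆ ∈ T := by
  induction hu using Subgroup.closure_induction with
  | mem w hw => exact hS w hw
  | one => rw [commutatorElement_one_left]; exact one_mem T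
  | mul a b _ _ ha hb => rw [mul_comm_left]; exact mul_mem (Subgroup.Normal.conj_mem inferInstance _ hb a) ha
  | inv a _ ha => rw [inv_comm_left]; exact Subgroup.Normal.conj_mem inferInstance _ (inv_mem ha) _

/-- The words of length `k + 1` generate a term of the series modulo the next. -/
theorem lcs_le_words {y s : G} (hgen : closure ({y, s} : Set G) = ⊤) :
    ∀ k, L k ≤ closure ({w | ∃ (x₀ : Bool) (l : List Bool), l.length = k ∧ w = word y s x₀ l} ∪
      (L (k + 1) : Set G)) := by
  intro k
  induction k with
  | zero =>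
    rw [Subgroup.lowerCentralSeries_zero, ← hgen, closure_le]
    rintro x (rfl | rfl)
    · exact subset_closure (Or.inl ⟨true, [], rfl, rfl⟩)
    · exact subset_closure (Or.inl ⟨false, [], rfl, rfl⟩)
  | succ k ih =>
    set S : Set G := {w | ∃ (x₀ : Bool) (l : List Bool), l.length = k + 1 ∧ w = word y s x₀ l} ∪
      (L (k + 1 + 1) : Set G)
    set T := closure S
    have h1 : L (k + 1 + 1) ≤ T := fun x hx => subset_closure (Or.inr hx)
    have h2 : T ≤ L (k + 1) := (closure_le _).2 (by
      rintro x (⟨x₀, l, hl, rfl⟩ | hx)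
      · exact hl ▸ word_mem y s x₀ l
      · exact Subgroup.lowerCentralSeries_antitone _ (Nat.le_succ _) hx)
    haveI := normal_of_between h1 h2
    rw [Subgroup.lowerCentralSeries_succ, commutator_le]
    intro u hu g hg
    rw [← hgen] at hg
    induction hg using Subgroup.closure_induction with
    | mem x hx =>
      refine comm_left_mem x ?_ (ih hu)
      rintro w (⟨x₀, l, hl, rfl⟩ | hw)
      · rcases hx with rfl | rfl
        · exact subset_closure (Or.inl ⟨x₀, true :: l, by simp [hl], rfl⟩)
        · exact subset_closure (Or.inl ⟨x₀, false :: l, by simp [hl], rfl⟩)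
      · refine h1 ?_
        rw [Subgroup.lowerCentralSeries_succ _ (k + 1)]
        exact commutator_mem_commutator hw (mem_top x)
    | one => rw [commutatorElement_one_right]; exact one_mem T
    | mul a b _ _ ha hb => rw [mul_comm_right]; exact mul_mem ha (Subgroup.Normal.conj_mem inferInstance _ hb a)
    | inv a _ ha => rw [inv_comm_right]; exact Subgroup.Normal.conj_mem inferInstance _ (inv_mem ha) _

/-- Words with at most one `y` are powers of the chain, modulo the next term. -/
theorem word_mem_chain (y s : G) (x₀ : Bool) : ∀ l : List Bool, l ≠ [] → (x₀ :: l).count true ≤ 1 →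
    word y s x₀ l ∈ closure ({chain y s l.length} ∪ (L (l.length + 1) : Set G)) := by
  intro l
  induction l with
  | nil => intro h; exact absurd rfl h
  | cons x l ih =>
    intro _ hc
    rcases eq_or_ne l [] with rfl | hl
    · have hc1 : ⁅y, s⁆ ∈ closure ({chain y s [x].length} ∪ (L ([x].length + 1) : Set G)) :=
        subset_closure (Or.inl rfl)
      cases x <;> cases x₀
      · rw [word_eq_one y s false [false] (by simp) (by simp)]; exact one_mem _
      · exact hc1
      · show ⁅s, y⁆ ∈ _
        rw [← commutatorElement_inv]; exact inv_mem hc1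
      · simp at hc
    · set S : Set G := {chain y s (x :: l).length} ∪ (L ((x :: l).length + 1) : Set G)
      cases x
      · have h1 : L ((false :: l).length + 1) ≤ closure S := fun z hz => subset_closure (Or.inr hz)
        have h2 : closure S ≤ L (false :: l).length := (closure_le _).2 (by
          rintro z (rfl | hz)
          · exact chain_mem y s _
          · exact Subgroup.lowerCentralSeries_antitone _ (Nat.le_succ _) hz)
        haveI := normal_of_between h1 h2
        refine comm_left_mem _ ?_ (ih hl (by simpa [List.count_cons] using hc))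
        rintro w (rfl | hw)
        · exact subset_closure (Or.inl rfl)
        · refine h1 ?_
          rw [Subgroup.lowerCentralSeries_succ _ (false :: l).length]
          exact commutator_mem_commutator hw (mem_top _)
      · have hz : (x₀ :: l).count true = 0 := by
          simp only [List.count_cons] at hc ⊢
          cases x₀ <;> simp at hc ⊢ <;> omega
        rw [List.count_eq_zero] at hz
        simp only [List.mem_cons, not_or] at hz
        have hx₀ : x₀ = false := by cases x₀ <;> simp_all
        have : word y s x₀ l = 1 := word_eq_one y s x₀ l hl fun z hz' => by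
          subst hx₀
          cases z
          · rfl
          · exact absurd hz' hz.2
        rw [word, this, commutatorElement_one_left]
        exact one_mem _

theorem comm_pow_left {u x z : G} (h : ⁅u, x⁆ = z) (hz : ∀ g, Commute g z) (A : ℕ) : ⁅u ^ A, x⁆ = z ^ A := by
  induction A with
  | zero => simp
  | succ A ih => rw [pow_succ', mul_comm_left, ih, h, ((hz u).pow_right A).eq, mul_inv_cancel_right, pow_succ]

theorem comm_pow_right {u x z : G} (h : ⁅u, x⁆ = z) (hz : ∀ g, Commute g z) (e : ℕ) : ⁅u, x ^ e⁆ = z ^ e := by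
  induction e with
  | zero => simp
  | succ e ih => rw [pow_succ, mul_comm_right, ih, h, (hz _).eq, mul_inv_cancel_right, pow_succ]

/-- Scaling `y` scales a word by the number of its `y`s. -/
theorem word_scale (y s : G) (a : ℕ) (x₀ : Bool) : ∀ l : List Bool,
    (word y s x₀ l ^ a ^ (x₀ :: l).count true)⁻¹ * word (y ^ a) s x₀ l ∈ L (l.length + 1) := by
  intro l
  induction l with
  | nil => cases x₀ <;> simp [word, letter]
  | cons x l ih =>
    let π := QuotientGroup.mk' (L ((x :: l).length + 1))
    set A := a ^ (x₀ :: l).count true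
    set e := bif x then a else 1 with he
    have hlet : letter (y ^ a) s x = letter y s x ^ e := by cases x <;> simp [letter, he]
    have hcount : a ^ (x₀ :: x :: l).count true = A * e := by
      cases x <;> simp [List.count_cons, A, he] <;> cases x₀ <;> simp [pow_succ]
    obtain ⟨r, hr, hre⟩ : ∃ r ∈ L (l.length + 1), word (y ^ a) s x₀ l = word y s x₀ l ^ A * r :=
      ⟨_, ih, (mul_inv_cancel_left _ _).symm⟩
    have hkill : ∀ w ∈ L (l.length + 1), ∀ g, π ⁅w, g⁆ = 1 := fun w hw g => by
      refine (QuotientGroup.eq_one_iff _).2 ?_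
      rw [List.length_cons, Subgroup.lowerCentralSeries_succ _ (l.length + 1)]
      exact commutator_mem_commutator hw (mem_top g)
    have hz : ∀ g, Commute g (π ⁅word y s x₀ l, letter y s x⁆) := fun g => by
      obtain ⟨g, rfl⟩ := QuotientGroup.mk'_surjective _ g
      refine (commutatorElement_eq_one_iff_commute.1 ?_).symm
      rw [← map_commutatorElement]
      refine hkill _ ?_ g
      rw [Subgroup.lowerCentralSeries_succ]
      exact commutator_mem_commutator (word_mem y s x₀ l) (mem_top _)
    refine (QuotientGroup.eq_one_iff _).1 (?_ : π _ = 1)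
    have hmain : π (word (y ^ a) s x₀ (x :: l)) = π (word y s x₀ (x :: l)) ^ (A * e) := by
      show π ⁅word (y ^ a) s x₀ l, letter (y ^ a) s x⁆ = π ⁅word y s x₀ l, letter y s x⁆ ^ (A * e)
      rw [hre, hlet, mul_comm_left, map_mul, map_mul, map_mul, hkill r hr, mul_one, ← map_mul, mul_inv_cancel,
        map_one, one_mul, map_commutatorElement, map_pow, map_pow, pow_mul]
      refine comm_pow_right (comm_pow_left ?_ hz A) (fun g => (hz g).pow_right A) e
      rw [map_commutatorElement]
    rw [map_mul, map_inv, map_pow, hmain, hcount, inv_mul_cancel]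

/-- The Hall–Petrescu relation in class less than `p`. -/
theorem pow_mul_of_class_lt {p : ℕ} [hp : Fact p.Prime] (hcl : L (p - 1) = ⊥) (a b : G) :
    ∃ c ∈ Subgroup.closure ((fun x => x ^ p) '' ((⁅(⊤ : Subgroup G), (⊤ : Subgroup G)⁆ : Subgroup G) : Set G)),
      (a * b) ^ p = a ^ p * b ^ p * c := by
  let Φ := PolySeq.lcsFilt (⊤ : Subgroup G)
  have hp1 : 1 < p := hp.out.one_lt
  have hFp : Φ.F (0 + p) = ⊥ := by
    show L (0 + p - 1) = ⊥
    rw [zero_add, hcl]
  have hpow : ∀ c : G, PolySeq.Poly Φ p 0 (fun t => c ^ t) := fun c => by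
    have h := PolySeq.poly_choose (Φ := Φ) p 1 0 (a := c) (mem_top c)
    simpa using h
  set S := Subgroup.closure ((fun x => x ^ p) '' ((⁅(⊤ : Subgroup G), (⊤ : Subgroup G)⁆ : Subgroup G) : Set G))
  let h₀ : ℕ → G := fun t => (b ^ t)⁻¹ * ((a ^ t)⁻¹ * (a * b) ^ t)
  have h0 : PolySeq.Poly Φ p 0 h₀ := (hpow b).inv.mul ((hpow a).inv.mul (hpow _))
  suffices hstep : ∀ k ≤ p, ∃ g : ℕ → G, PolySeq.Poly Φ p 0 g ∧ (∀ t, t < k → g t = 1) ∧
      (∀ t, t < 2 → g t = 1) ∧ h₀ p * (g p)⁻¹ ∈ S by
    obtain ⟨g, hg, hv, -, hS⟩ := hstep p le_rfl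
    rw [PolySeq.eq_one_of_vanish p hFp hg hv p, inv_one, mul_one] at hS
    refine ⟨h₀ p, hS, ?_⟩
    simp [h₀, mul_assoc]
  intro k
  induction k with
  | zero =>
    intro _
    refine ⟨h₀, h0, fun t ht => absurd ht (Nat.not_lt_zero t), fun t ht => ?_,
      by rw [mul_inv_cancel]; exact one_mem S⟩
    interval_cases t <;> simp [h₀, mul_assoc]
  | succ k ih =>
    intro hk
    obtain ⟨g, hg, hv, hlow, hS⟩ := ih (by omega)
    have hgk : g k ∈ Φ.F (0 + k) := PolySeq.mem_of_vanish k (by omega) hg hv
    refine ⟨fun t => (g k ^ t.choose k)⁻¹ * g t, (PolySeq.poly_choose p k 0 hgk).inv.mul hg,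
      fun t ht => ?_, fun t ht => ?_, ?_⟩
    · rcases Nat.lt_succ_iff_lt_or_eq.mp ht with h | rfl
      · simp [hv t h, Nat.choose_eq_zero_of_lt h]
      · simp
    · show (g k ^ t.choose k)⁻¹ * g t = 1
      rcases Nat.lt_or_ge k 2 with h2 | h2
      · simp [hlow k h2, hlow t ht]
      · simp [hlow t ht, Nat.choose_eq_zero_of_lt (show t < k by omega)]
    · show h₀ p * ((g k ^ p.choose k)⁻¹ * g p)⁻¹ ∈ S
      rw [mul_inv_rev, inv_inv, ← mul_assoc]
      refine mul_mem hS ?_
      rcases Nat.lt_or_ge k 2 with h2 | h2
      · simp [hlow k h2]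
      · have hmem : g k ∈ ⁅(⊤ : Subgroup G), (⊤ : Subgroup G)⁆ := Φ.anti (show 2 ≤ 0 + k by omega) hgk
        obtain ⟨c, hc⟩ := hp.out.dvd_choose_self (by omega : k ≠ 0) (by omega : k < p)
        exact Subgroup.subset_closure ⟨g k ^ c, pow_mem hmem c, by
          show (g k ^ c) ^ p = g k ^ p.choose k
          rw [← pow_mul, hc, mul_comm]⟩

end CfsgLib.PGroup.MaxClassPower
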