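import Cfsg.Agent.Lib.PGroup.MaxClassPower.Formula

/-!
# Powers in a p-group of maximal class

`IsMax G p m`: order `p ^ m`, `m ≥ 3`, class `m - 1`. For a uniform element `s` (outside the derived group
and all two-step centralisers) the `p`-th power maps `L i` onto `L (i + p - 1)` level by level, `i ≥ 1`.
Indices of lower central series start at zero, so `L 1` is the derived subgroup.
-/

set_option autoImplicit false
set_option linter.style.haveILetI false

namespace CfsgLib.PGroup.MaxClassPower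

open Subgroup
open scoped commutatorElement
open CfsgLib.Fusion

universe u

variable {G : Type u} [Group G] {p m : ℕ}

local notation "L" => Subgroup.lowerCentralSeries (⊤ : Subgroup G)

/-- Order `p ^ m` and class `m - 1`. -/
structure IsMax (G : Type u) [Group G] (p m : ℕ) : Prop where
  card : Nat.card G = p ^ m
  three_le : 3 ≤ m
  ne_bot : Subgroup.lowerCentralSeries (⊤ : Subgroup G) (m - 2) ≠ ⊥

/-- Elements centralising one step of the series modulo the next but one. -/
def twoStep (G : Type u) [Group G] (j : ℕ) : Subgroup G where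
  carrier := {g | ∀ b ∈ Subgroup.lowerCentralSeries (⊤ : Subgroup G) j,
    ⁅g, b⁆ ∈ Subgroup.lowerCentralSeries (⊤ : Subgroup G) (j + 2)}
  one_mem' := fun b _ => by rw [commutatorElement_one_left]; exact one_mem _
  mul_mem' := fun {u v} hu hv b hb => by
    rw [mul_comm_left]
    exact mul_mem (Subgroup.Normal.conj_mem inferInstance _ (hv b hb) u) (hu b hb)
  inv_mem' := fun {u} hu b hb => by
    rw [inv_comm_left]
    exact Subgroup.Normal.conj_mem inferInstance _ (inv_mem (hu b hb)) _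

theorem comm_mem_succ {i : ℕ} {a : G} (ha : a ∈ L i) (g : G) : ⁅a, g⁆ ∈ L (i + 1) := by
  rw [Subgroup.lowerCentralSeries_succ]; exact commutator_mem_commutator ha (mem_top g)

theorem comm_mem_succ' {i : ℕ} {a : G} (ha : a ∈ L i) (g : G) : ⁅g, a⁆ ∈ L (i + 1) := by
  rw [← commutatorElement_inv]; exact inv_mem (comm_mem_succ ha g)

theorem comm_mem_add {i j : ℕ} {a b : G} (ha : a ∈ L i) (hb : b ∈ L j) : ⁅a, b⁆ ∈ L (i + j + 1) :=
  PolySeq.commutator_lcs_le i j (commutator_mem_commutator ha hb)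

theorem L1_le_twoStep (i : ℕ) : L 1 ≤ twoStep G i := fun g hg b hb =>
  Subgroup.lowerCentralSeries_antitone _ (by omega) (comm_mem_add hg hb)

theorem twoStep_normal (i : ℕ) : (twoStep G i).Normal := by
  refine ⟨fun t ht g => ?_⟩
  rw [show g * t * g⁻¹ = ⁅g, t⁆ * t by simp [commutatorElement_def]]
  exact mul_mem (L1_le_twoStep i (comm_mem_succ' (Subgroup.mem_top t : t ∈ L 0) g)) ht

/-- Commutators within the subgroup generated by two elements. -/
theorem pair_commutator_le {a b : G} {T : Subgroup G} [T.Normal] (h : ⁅a, b⁆ ∈ T) :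
    ⁅closure ({a, b} : Set G), closure ({a, b} : Set G)⁆ ≤ T := by
  have h' : ⁅b, a⁆ ∈ T := by rw [← commutatorElement_inv]; exact inv_mem h
  rw [commutator_le]
  intro u hu v hv
  refine comm_left_mem v ?_ hu
  intro w hw
  rw [← commutatorElement_inv]
  refine inv_mem (comm_left_mem w ?_ hv)
  intro z hz
  rcases hw with rfl | rfl <;> rcases hz with rfl | rfl
  all_goals first
    | exact h
    | exact h'
    | (rw [commutatorElement_self]; exact one_mem T)

/-- A word with a `y` of level `i` in it. -/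
theorem word_level {y s : G} {i : ℕ} (hy : y ∈ L i) (x₀ : Bool) :
    ∀ l : List Bool, word y s x₀ l ∈ L ((x₀ :: l).count true * i + l.length) := by
  intro l
  induction l with
  | nil => cases x₀ <;> simp [word, letter, hy]
  | cons x l ih =>
    cases x
    · rw [show (x₀ :: false :: l).count true * i + (false :: l).length =
        (x₀ :: l).count true * i + l.length + 1 by simp [List.count_cons]; ring]
      exact comm_mem_succ ih _
    · rw [show (x₀ :: true :: l).count true * i + (true :: l).length =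
        (x₀ :: l).count true * i + l.length + i + 1 by simp [List.count_cons]; ring]
      exact comm_mem_add ih hy

variable [Finite G] [hp : Fact p.Prime]

namespace IsMax

variable (h : IsMax G p m)
include h

theorem isPGroup : IsPGroup p G := IsPGroup.of_card h.card

theorem L_bot {i : ℕ} (hi : m - 1 ≤ i) : L i = ⊥ := by
  haveI := h.isPGroup.isNilpotent
  refine Subgroup.lowerCentralSeries_eq_bot_iff_nilpotencyClass_le.mpr ?_
  exact (MaxClass.class_le (by have := h.three_le; omega) h.card).trans hi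

theorem L_ne_bot {i : ℕ} (hi : i ≤ m - 2) : L i ≠ ⊥ := fun he =>
  h.ne_bot (le_bot_iff.mp (he ▸ Subgroup.lowerCentralSeries_antitone _ hi))

theorem L_lt {i : ℕ} (hi : i ≤ m - 2) : L (i + 1) < L i := MaxClass.lcs_strict h.isPGroup (h.L_ne_bot hi)

theorem card_L : ∀ {i : ℕ}, 1 ≤ i → i ≤ m - 1 → Nat.card (L i) = p ^ (m - 1 - i) := by
  have lower : ∀ j l, l + j = m - 1 → p ^ j ≤ Nat.card (L l) := by
    intro j
    induction j with
    | zero => intro l _; simpa using Nat.one_le_iff_ne_zero.mpr Nat.card_pos.ne'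
    | succ j ih =>
      intro l hl
      calc p ^ (j + 1) = p * p ^ j := pow_succ' _ _
        _ ≤ p * Nat.card (L (l + 1)) := Nat.mul_le_mul_left _ (ih (l + 1) (by omega))
        _ ≤ _ := MaxClass.card_mul_le_of_lt h.isPGroup (h.L_lt (by omega))
  intro i hi1 hi
  refine le_antisymm ?_ (lower _ _ (by omega))
  obtain ⟨l, rfl⟩ : ∃ l, i = l + 1 := ⟨i - 1, by omega⟩
  rcases MaxClass.card_lcs_le h.isPGroup (show 2 ≤ m by have := h.three_le; omega) h.card l with he | he
  · rw [he, Subgroup.card_bot]; exact Nat.one_le_pow _ _ hp.out.pos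
  · refine Nat.le_of_mul_le_mul_left (he.trans (le_of_eq ?_)) (pow_pos hp.out.pos (l + 2))
    rw [← pow_add]; congr 1; omega

theorem layer {j : ℕ} (hj1 : 1 ≤ j) (hj : j ≤ m - 2) {c : G} (hc : c ∈ L j) (hc' : c ∉ L (j + 1)) :
    L j ≤ zpowers c ⊔ L (j + 1) := by
  refine (Subgroup.eq_of_le_of_card_ge (sup_le (zpowers_le.mpr hc)
    (Subgroup.lowerCentralSeries_antitone _ (Nat.le_succ j))) ?_).ge
  refine le_trans (le_of_eq ?_) (MaxClass.card_mul_le_of_lt h.isPGroup
    (lt_of_le_not_ge (le_sup_right : L (j + 1) ≤ zpowers c ⊔ L (j + 1))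
      fun e => hc' (e (mem_sup_left (mem_zpowers c)))))
  rw [h.card_L hj1 (by omega), h.card_L (by omega) (by omega), ← pow_succ']
  congr 1
  omega

theorem pow_layer {j : ℕ} (hj1 : 1 ≤ j) {x : G} (hx : x ∈ L j) : x ^ p ∈ L (j + 1) := by
  rcases Nat.lt_or_ge (m - 2) j with hj | hj
  · rw [h.L_bot (show m - 1 ≤ j by omega), mem_bot] at hx
    rw [hx, one_pow]; exact one_mem _
  have hcard : Nat.card (L j ⧸ (L (j + 1)).subgroupOf (L j)) = p := by
    have h1 := Subgroup.card_eq_card_quotient_mul_card_subgroup ((L (j + 1)).subgroupOf (L j))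
    rw [Nat.card_congr (Subgroup.subgroupOfEquivOfLe (Subgroup.lowerCentralSeries_antitone
      (⊤ : Subgroup G) (Nat.le_succ j))).toEquiv, h.card_L (i := j + 1) (by omega) (by omega),
      h.card_L hj1 (by omega), show m - 1 - j = 1 + (m - 1 - (j + 1)) by omega, pow_add, pow_one] at h1
    exact (Nat.eq_of_mul_eq_mul_right (pow_pos hp.out.pos _) h1).symm
  have h2 : (QuotientGroup.mk (⟨x, hx⟩ : L j) : L j ⧸ (L (j + 1)).subgroupOf (L j)) ^ p = 1 := by
    rw [← hcard]; exact pow_card_eq_one'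
  rw [← QuotientGroup.mk_pow, QuotientGroup.eq_one_iff, Subgroup.mem_subgroupOf] at h2
  exact h2

theorem card_quot_L1 : Nat.card (G ⧸ L 1) = p ^ 2 := by
  have h1 := Subgroup.card_eq_card_quotient_mul_card_subgroup (L 1)
  rw [h.card, h.card_L le_rfl (by have := h.three_le; omega),
    show m = 2 + (m - 1 - 1) by have := h.three_le; omega, pow_add] at h1
  exact (Nat.eq_of_mul_eq_mul_right (pow_pos hp.out.pos _)
    (by simpa [show 2 + (m - 1 - 1) - 1 - 1 = m - 1 - 1 by omega] using h1)).symm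

theorem pow_mem_L1 (x : G) : x ^ p ∈ L 1 := by
  rw [← QuotientGroup.eq_one_iff, QuotientGroup.mk_pow]
  by_contra hx
  have hL1 : commutator G = L 1 := (Subgroup.top_lowerCentralSeries_one).symm
  have hord : orderOf (x : G ⧸ L 1) = p ^ 2 := by
    refine orderOf_eq_prime_pow (by rwa [pow_one]) ?_
    rw [← h.card_quot_L1]; exact pow_card_eq_one'
  have hc : IsCyclic (G ⧸ L 1) := isCyclic_of_orderOf_eq_card _ (hord.trans h.card_quot_L1.symm)
  have h1 := MaxClass.commutator_eq_bot_of_cyclic h.isPGroup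
    ((MulEquiv.isCyclic (QuotientGroup.quotientMulEquivOfEq hL1.symm)).mp hc)
  exact h.L_ne_bot (show 1 ≤ m - 2 by have := h.three_le; omega) (hL1 ▸ h1)

theorem mem_twoStep {j : ℕ} (hj1 : 1 ≤ j) (hj : j ≤ m - 2) {g c : G} (hc : c ∈ L j) (hc' : c ∉ L (j + 1))
    (hgc : ⁅g, c⁆ ∈ L (j + 2)) : g ∈ twoStep G j := by
  intro b hb
  have hb' : b ∈ closure (({c} : Set G) ∪ (L (j + 1) : Set G)) := by
    have h2 := h.layer hj1 hj hc hc' hb
    rwa [zpowers_eq_closure, ← Subgroup.closure_eq (L (j + 1)), ← Subgroup.closure_union] at h2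
  rw [← commutatorElement_inv]
  refine inv_mem (comm_left_mem g ?_ hb')
  rintro w (hw | hw)
  · rw [Set.mem_singleton_iff.mp hw, ← commutatorElement_inv]; exact inv_mem hgc
  · exact comm_mem_succ hw g

theorem twoStep_ne_top {j : ℕ} (hj : j + 1 ≤ m - 2) : twoStep G j ≠ ⊤ := by
  intro htop
  refine (h.L_lt hj).not_ge ?_
  show L (j + 1) ≤ L (j + 2)
  rw [Subgroup.lowerCentralSeries_succ _ j, commutator_le]
  intro b hb g _
  rw [← commutatorElement_inv]
  exact inv_mem ((htop.ge (mem_top g) : g ∈ twoStep G j) b hb)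

theorem twoStep_sup {j : ℕ} (hj1 : 1 ≤ j) (hj : j + 1 ≤ m - 2) {u : G} (hu : u ∉ twoStep G j) :
    twoStep G j ⊔ zpowers u = ⊤ := by
  obtain ⟨w, hw, hw'⟩ := SetLike.exists_of_lt (h.L_lt (show j ≤ m - 2 by omega))
  have hc : ⁅u, w⁆ ∈ L (j + 1) := comm_mem_succ' hw u
  have hc' : ⁅u, w⁆ ∉ L (j + 2) := fun e => hu (h.mem_twoStep hj1 (by omega) hw hw' e)
  let π := QuotientGroup.mk' (L (j + 2))
  have hπ : ∀ b ∈ L (j + 1), ∀ t : G ⧸ L (j + 2), Commute t (π b) := fun b hb t => by
    obtain ⟨g, rfl⟩ := QuotientGroup.mk'_surjective _ t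
    refine (commutatorElement_eq_one_iff_commute.1 ?_).symm
    rw [← map_commutatorElement]
    exact (QuotientGroup.eq_one_iff _).2 (comm_mem_succ hb g)
  rw [eq_top_iff]
  intro g _
  obtain ⟨v, hv, r, hr, hvr⟩ := Subgroup.mem_sup_of_normal_right.mp
    (h.layer (by omega) hj hc hc' (comm_mem_succ' hw g))
  obtain ⟨k, rfl⟩ := mem_zpowers_iff.mp hv
  -- the exponent can be taken natural
  obtain ⟨k', hk'⟩ : ∃ k' : ℕ, π ⁅u, w⁆ ^ k = π ⁅u, w⁆ ^ k' := by
    refine ⟨(k % p).toNat, ?_⟩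
    have hpw : π ⁅u, w⁆ ^ p = 1 := by
      rw [← map_pow]; exact (QuotientGroup.eq_one_iff _).2 (h.pow_layer (by omega) hc)
    rw [← zpow_natCast, Int.toNat_of_nonneg (Int.emod_nonneg _ (by exact_mod_cast hp.out.ne_zero))]
    exact zpow_eq_zpow_emod' k hpw
  have hg : g * (u ^ k')⁻¹ ∈ twoStep G j := by
    refine h.mem_twoStep hj1 (by omega) hw hw' ((QuotientGroup.eq_one_iff _).1 (?_ : π _ = 1))
    have e1 : π ⁅u ^ k', w⁆ = π ⁅u, w⁆ ^ k' := by
      rw [map_commutatorElement, map_pow]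
      exact comm_pow_left (map_commutatorElement π u w).symm (hπ _ hc) k'
    have e2 : π ⁅(u ^ k')⁻¹, w⁆ = (π ⁅u, w⁆ ^ k')⁻¹ := by
      rw [inv_comm_left, map_mul, map_mul, map_inv π ⁅u ^ k', w⁆, e1,
        ((hπ _ hc (π (u ^ k')⁻¹)).pow_right k').inv_right.eq, mul_assoc, ← map_mul, mul_inv_cancel,
        map_one, mul_one]
    rw [mul_comm_left, map_mul, map_mul, map_mul, e2, ((hπ _ hc (π g)).pow_right k').inv_right.eq,
      mul_assoc _ (π g), ← map_mul π g, mul_inv_cancel, map_one, mul_one, ← hvr, map_mul, map_zpow,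
      show π r = 1 from (QuotientGroup.eq_one_iff r).2 hr, mul_one, hk', inv_mul_cancel]
  rw [show g = g * (u ^ k')⁻¹ * u ^ k' by group]
  exact mul_mem (mem_sup_left hg) (mem_sup_right (pow_mem (mem_zpowers u) k'))
where
  zpow_eq_zpow_emod' {H : Type u} [Group H] {x : H} {p : ℕ} (k : ℤ) (hx : x ^ p = 1) :
      x ^ k = x ^ (k % p) := by
    conv_lhs => rw [← Int.emod_add_mul_ediv k p]
    rw [zpow_add, zpow_mul, zpow_natCast, hx, one_zpow, mul_one]

/-- Outside the derived subgroup nothing is central modulo `L 2`. -/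
theorem exists_comm_notMem {s : G} (hs : s ∉ L 1) : ∃ w : G, ⁅w, s⁆ ∉ L 2 := by
  by_contra hall
  push Not at hall
  have hm := h.three_le
  have hs0 : s ∈ twoStep G 0 := fun b _ => by
    rw [← commutatorElement_inv]; exact inv_mem (hall b)
  have hne := h.twoStep_ne_top (show 0 + 1 ≤ m - 2 by omega)
  obtain ⟨u, -, hu⟩ := SetLike.exists_of_lt (lt_top_iff_ne_top.mpr hne)
  haveI := twoStep_normal (G := G) 0
  have hlt : L 1 < twoStep G 0 := lt_of_le_not_ge (L1_le_twoStep 0) fun e => hs (e hs0)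
  have h1 := MaxClass.card_mul_le_of_lt h.isPGroup hlt
  have hlt2 : twoStep G 0 < twoStep G 0 ⊔ zpowers u :=
    lt_of_le_not_ge le_sup_left fun e => hu (e (mem_sup_right (mem_zpowers u)))
  have h2 := MaxClass.card_mul_le_of_lt h.isPGroup hlt2
  rw [h.card_L le_rfl (by omega), ← pow_succ', show m - 1 - 1 + 1 = m - 1 by omega] at h1
  have htop : twoStep G 0 ⊔ zpowers u = ⊤ := Subgroup.eq_top_of_le_card _ (by
    rw [h.card, show p ^ m = p * p ^ (m - 1) by rw [← pow_succ', Nat.sub_add_cancel (by omega)]]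
    exact (Nat.mul_le_mul_left p h1).trans h2)
  refine (h.L_lt (show 1 ≤ m - 2 by omega)).not_ge ?_
  show L 1 ≤ L 2
  rw [Subgroup.lowerCentralSeries_succ _ 0, commutator_le]
  intro a _ b _
  have hgen : ∀ a : G, a ∈ closure ((twoStep G 0 : Set G) ∪ {u}) := fun a => by
    rw [Subgroup.closure_union, Subgroup.closure_eq, ← zpowers_eq_closure, htop]; exact mem_top a
  refine comm_left_mem b ?_ (hgen a)
  rintro w (hw | hw)
  · exact hw b (mem_top b)
  · rw [Set.mem_singleton_iff.mp hw, ← commutatorElement_inv]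
    refine inv_mem (comm_left_mem u ?_ (hgen b))
    rintro z (hz | hz)
    · exact hz u (mem_top u)
    · rw [Set.mem_singleton_iff.mp hz, commutatorElement_self]; exact one_mem _

end IsMax

/-- Outside the derived subgroup and the two-step centralisers up to `k`. -/
def Good (s : G) (k : ℕ) : Prop := s ∉ L 1 ∧ ∀ i, 1 ≤ i → i ≤ k → s ∉ twoStep G i

theorem Good.mono {s : G} {k l : ℕ} (hs : Good s k) (hl : l ≤ k) : Good s l :=
  ⟨hs.1, fun i h1 h2 => hs.2 i h1 (h2.trans hl)⟩

namespace IsMax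

variable (h : IsMax G p m)
include h

theorem comm_notMem {s w : G} {i : ℕ} (hi1 : 1 ≤ i) (hi : i ≤ m - 2) (hs : s ∉ twoStep G i)
    (hw : w ∈ L i) (hw' : w ∉ L (i + 1)) : ⁅w, s⁆ ∉ L (i + 2) := fun e =>
  hs (h.mem_twoStep hi1 hi hw hw' (by rw [← commutatorElement_inv]; exact inv_mem e))

theorem spow_mem {s : G} {k : ℕ} (hk : k ≤ m - 2) (hs : Good s k) : ∀ j, j ≤ k + 1 → s ^ p ∈ L j := by
  intro j
  induction j with
  | zero => exact fun _ => mem_top _
  | succ j ih =>
    intro hj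
    rcases Nat.eq_zero_or_pos j with rfl | hj1
    · exact h.pow_mem_L1 s
    by_contra hn
    refine hs.2 j hj1 (by omega) (h.mem_twoStep hj1 (by omega) (ih (by omega)) hn ?_)
    rw [commutatorElement_eq_one_iff_commute.mpr ((Commute.refl s).pow_right p)]
    exact one_mem _

/-- Every element of `L (a + 1)` is a commutator with `s` modulo `L t`. -/
theorem exists_comm_eq {s : G} {t : ℕ} (ht : t ≤ m - 1) (hs : Good s (t - 2)) :
    ∀ (d i : ℕ), i + 1 + d = t → ∀ y ∈ L (i + 1), ∃ w ∈ L i, (⁅w, s⁆)⁻¹ * y ∈ L t := by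
  intro d
  induction d with
  | zero =>
    intro i hi y hy
    exact ⟨1, one_mem _, by rw [commutatorElement_one_left, inv_one, one_mul]; rwa [← hi]⟩
  | succ d ih =>
    intro i hi y hy
    obtain ⟨w₀, hw₀, hne⟩ : ∃ w ∈ L i, ⁅w, s⁆ ∉ L (i + 2) := by
      rcases Nat.eq_zero_or_pos i with rfl | hi1
      · obtain ⟨w, hw⟩ := h.exists_comm_notMem hs.1
        exact ⟨w, mem_top w, hw⟩
      · obtain ⟨w, hw, hw'⟩ := SetLike.exists_of_lt (h.L_lt (show i ≤ m - 2 by omega))
        exact ⟨w, hw, h.comm_notMem hi1 (by omega) (hs.2 i hi1 (by omega)) hw hw'⟩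
    have hc : ⁅w₀, s⁆ ∈ L (i + 1) := comm_mem_succ hw₀ s
    obtain ⟨v, hv, r, hr, hvr⟩ := Subgroup.mem_sup_of_normal_right.mp
      (h.layer (by omega) (by omega) hc hne hy)
    obtain ⟨u, hu, hur⟩ : ∃ u ∈ L i, ⁅u, s⁆⁻¹ * y ∈ L (i + 2) := by
      let T : Subgroup G := closure {z | ∃ u ∈ L i, z = ⁅u, s⁆}
      let π := QuotientGroup.mk' (L (i + 2))
      have hπc : ∀ b ∈ L (i + 1), ∀ g : G, Commute (π g) (π b) := fun b hb g => by
        refine (commutatorElement_eq_one_iff_commute.1 ?_).symm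
        rw [← map_commutatorElement]
        exact (QuotientGroup.eq_one_iff _).2 (comm_mem_succ hb g)
      have hT : ∀ z ∈ T, ∃ u ∈ L i, π ⁅u, s⁆ = π z := by
        intro z hz
        induction hz using Subgroup.closure_induction with
        | mem z hz => obtain ⟨u, hu, rfl⟩ := hz; exact ⟨u, hu, rfl⟩
        | one => exact ⟨1, one_mem _, by rw [commutatorElement_one_left]⟩
        | mul a b _ _ ha hb =>
          obtain ⟨u₁, hu₁, e₁⟩ := ha
          obtain ⟨u₂, hu₂, e₂⟩ := hb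
          refine ⟨u₁ * u₂, mul_mem hu₁ hu₂, ?_⟩
          rw [mul_comm_left, map_mul, map_mul, map_mul, (hπc _ (comm_mem_succ hu₂ s) u₁).eq, map_inv,
            mul_inv_cancel_right, ← (hπc _ (comm_mem_succ hu₁ s) _).symm.eq, e₁, e₂, map_mul]
        | inv a _ ha =>
          obtain ⟨u₁, hu₁, e₁⟩ := ha
          refine ⟨u₁⁻¹, inv_mem hu₁, ?_⟩
          rw [inv_comm_left, map_mul, map_mul, (hπc _ (inv_mem (comm_mem_succ hu₁ s)) u₁⁻¹).eq,
            mul_assoc, ← map_mul, mul_inv_cancel, map_one, mul_one, map_inv, e₁, map_inv]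
      obtain ⟨u, hu, hu'⟩ := hT v (by
        obtain ⟨k, rfl⟩ := mem_zpowers_iff.mp hv
        exact zpow_mem (Subgroup.subset_closure (k := {z : G | ∃ u ∈ L i, z = ⁅u, s⁆}) ⟨w₀, hw₀, rfl⟩) k)
      refine ⟨u, hu, (QuotientGroup.eq_one_iff _).1 (?_ : π _ = 1)⟩
      rw [← hvr, map_mul, map_mul, map_inv, hu', show π r = 1 from (QuotientGroup.eq_one_iff r).2 hr, mul_one, inv_mul_cancel]
    set y' := u⁻¹ * (y * ⁅u, s⁆⁻¹) * u⁻¹⁻¹ with hy'
    have hy2 : y' ∈ L (i + 1 + 1) := by
      refine Subgroup.Normal.conj_mem inferInstance _ ?_ u⁻¹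
      rw [show y * ⁅u, s⁆⁻¹ = ⁅u, s⁆ * (⁅u, s⁆⁻¹ * y) * ⁅u, s⁆⁻¹ by group]
      exact Subgroup.Normal.conj_mem inferInstance _ hur _
    obtain ⟨w₁, hw₁, hw₁'⟩ := ih (i + 1) (by omega) y' hy2
    refine ⟨u * w₁, mul_mem hu (Subgroup.lowerCentralSeries_antitone _ (Nat.le_succ i) hw₁), ?_⟩
    rw [show (⁅u * w₁, s⁆)⁻¹ * y =
        (⁅u, s⁆⁻¹ * u) * (⁅w₁, s⁆⁻¹ * y') * (⁅u, s⁆⁻¹ * u)⁻¹ by rw [mul_comm_left, hy']; group]
    exact Subgroup.Normal.conj_mem inferInstance _ hw₁' _

/-- The identity `(y s) ^ p = s ^ p` on `L a`. -/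
def Ident (_ : IsMax G p m) (s : G) (a : ℕ) : Prop := ∀ y ∈ L a, (y * s) ^ p = s ^ p

theorem ident_of_comm {s : G} {a t : ℕ} (ht : t ≤ m - 1) (hat : a + 1 ≤ t) (hs : Good s (t - 2))
    (hz : ∀ z ∈ L t, z ^ p = 1 ∧ ∀ g, Commute z g) (hws : ∀ w ∈ L a, Commute w (s ^ p)) :
    h.Ident s (a + 1) := by
  intro y hy
  obtain ⟨w, hw, hwy⟩ := h.exists_comm_eq ht hs (t - (a + 1)) a (by omega) y hy
  obtain ⟨hz1, hz2⟩ := hz _ hwy
  set z := ⁅w, s⁆⁻¹ * y
  have e : y * s = (w * s * w⁻¹) * z := by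
    have : y = ⁅w, s⁆ * z := (mul_inv_cancel_left _ _).symm
    rw [this, mul_assoc, (hz2 s).eq, ← mul_assoc, commutatorElement_def]
    group
  rw [e, (hz2 _).symm.mul_pow, hz1, mul_one, conj_pow, (hws w hw).eq, mul_inv_cancel_right]

theorem central_top {z : G} (hz : z ∈ L (m - 2)) : z ^ p = 1 ∧ ∀ g, Commute z g := by
  have hm := h.three_le
  constructor
  · have h1 := h.pow_layer (show 1 ≤ m - 2 by omega) hz
    rwa [h.L_bot (by omega), mem_bot] at h1
  · intro g
    refine commutatorElement_eq_one_iff_commute.1 ?_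
    have h1 := comm_mem_succ hz g
    rwa [h.L_bot (by omega), mem_bot] at h1

theorem ident_one {s : G} (hs : Good s (m - 3)) : h.Ident s 1 := by
  have hm := h.three_le
  refine h.ident_of_comm (a := 0) (t := m - 1) le_rfl (by omega) hs (fun z hz => ?_) (fun w _ => ?_)
  · rw [h.L_bot le_rfl, mem_bot] at hz
    subst hz
    exact ⟨one_pow _, Commute.one_left⟩
  · exact ((h.central_top (h.spow_mem (by omega) hs (m - 2) (by omega))).2 w).symm

theorem ident_two (h4 : 4 ≤ m) {s : G} (hs : Good s (m - 4)) : h.Ident s 2 := by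
  refine h.ident_of_comm (a := 1) (t := m - 2) (by omega) (by omega) hs (fun z hz => h.central_top hz)
    (fun w hw => ?_)
  refine commutatorElement_eq_one_iff_commute.1 ?_
  have h1 := comm_mem_add hw (h.spow_mem (by omega) hs (m - 3) (by omega))
  rwa [h.L_bot (by omega), mem_bot] at h1

theorem pow_step {s y : G} {a i : ℕ} (ha : 1 ≤ a) (hI : h.Ident s a) (hi : a ≤ i) (hy : y ∈ L i)
    (IH : ∀ x ∈ L (i + 1), x ^ p ∈ L (i + p)) :
    s ^ p * (chain y s (p - 1) ^ hpConst p) * (s ^ p)⁻¹ * y ^ p ∈ L (i + p) := by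
  set K := closure ({y, s} : Set G)
  have hK1 : ⁅K, K⁆ ≤ L (i + 1) := pair_commutator_le (comm_mem_succ hy s)
  have hKl : ∀ k, K.lowerCentralSeries (k + 1) ≤ L (i + (k + 1)) := by
    intro k
    induction k with
    | zero => rw [Subgroup.lowerCentralSeries_succ, Subgroup.lowerCentralSeries_zero]; exact hK1
    | succ k ih =>
      rw [Subgroup.lowerCentralSeries_succ, show i + (k + 1 + 1) = i + (k + 1) + 1 by omega,
        Subgroup.lowerCentralSeries_succ _ (i + (k + 1))]
      exact commutator_mono ih le_top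
  have hp1 := hp.out.two_le
  have hf := formula p y s (L (i + p)) (fun x hx => IH x (hK1 hx))
    (by have h2 := hKl (p - 1); rwa [show p - 1 + 1 = p by omega] at h2)
    (fun x₀ l hl h2 => Subgroup.lowerCentralSeries_antitone _
      (by rw [hl]; have := Nat.mul_le_mul_right i h2; omega) (word_level hy x₀ l))
  rw [hI y (Subgroup.lowerCentralSeries_antitone _ hi hy)] at hf
  have h1 := Subgroup.Normal.conj_mem (H := L (i + p)) inferInstance _ (inv_mem hf) (s ^ p)
  rw [show s ^ p * ((s ^ p)⁻¹ * (y ^ p)⁻¹ * s ^ p * (chain y s (p - 1) ^ hpConst p)⁻¹)⁻¹ * (s ^ p)⁻¹ =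
    s ^ p * (chain y s (p - 1) ^ hpConst p) * (s ^ p)⁻¹ * y ^ p by group] at h1
  exact h1

theorem chain_level {s : G} {i : ℕ} {y : G} (hy : y ∈ L i) : ∀ k, chain y s k ∈ L (i + k) := by
  intro k
  induction k with
  | zero => exact hy
  | succ k ih => exact comm_mem_succ ih s

theorem pow_mem {s : G} {a : ℕ} (ha : 1 ≤ a) (hI : h.Ident s a) :
    ∀ i, a ≤ i → ∀ y ∈ L i, y ^ p ∈ L (i + p - 1) := by
  suffices key : ∀ d i, a ≤ i → m - 1 ≤ i + d → ∀ y ∈ L i, y ^ p ∈ L (i + p - 1) from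
    fun i hi => key (m - 1) i hi (by omega)
  intro d
  induction d with
  | zero =>
    intro i _ hi y hy
    rw [h.L_bot (show m - 1 ≤ i by omega), mem_bot] at hy
    rw [hy, one_pow]; exact one_mem _
  | succ d ih =>
    intro i hi hd y hy
    have h1 := h.pow_step ha hI hi hy fun x hx => by
      have h2 := ih (i + 1) (by omega) (by omega) x hx
      rwa [show i + 1 + p - 1 = i + p by omega] at h2
    have h2 : s ^ p * (chain y s (p - 1) ^ hpConst p) * (s ^ p)⁻¹ ∈ L (i + p - 1) := by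
      refine Subgroup.Normal.conj_mem inferInstance _ (zpow_mem ?_ _) _
      rw [show i + p - 1 = i + (p - 1) by have := hp.out.pos; omega]
      exact h.chain_level hy _
    have h3 := Subgroup.lowerCentralSeries_antitone (⊤ : Subgroup G) (show i + p - 1 ≤ i + p by omega) h1
    exact (Subgroup.mul_mem_cancel_left _ h2).1 h3

theorem chain_notMem {s y : G} {i : ℕ} (hi : 1 ≤ i) (hy : y ∈ L i) (hy' : y ∉ L (i + 1)) :
    ∀ k, i + k ≤ m - 2 → Good s (i + k - 1) → chain y s k ∉ L (i + k + 1) := by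
  intro k
  induction k with
  | zero => exact fun _ _ => hy'
  | succ k ih =>
    intro hk hs
    exact h.comm_notMem (i := i + k) (by omega) (by omega) (hs.2 (i + k) (by omega) (by omega)) (h.chain_level hy k)
      (ih (by omega) (hs.mono (by omega)))

theorem pow_notMem {s y : G} {a i : ℕ} (ha : 1 ≤ a) (hI : h.Ident s a) (hi : a ≤ i) (hy : y ∈ L i)
    (hy' : y ∉ L (i + 1)) (hb : i + p - 1 ≤ m - 2) (hs : Good s (i + p - 2)) :
    y ^ p ∉ L (i + p) := by
  intro hyp
  have hp1 := hp.out.two_le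
  have h1 := h.pow_step ha hI hi hy fun x hx => by
    have h2 := h.pow_mem ha hI (i + 1) (by omega) x hx
    rwa [show i + 1 + p - 1 = i + p by omega] at h2
  have h2 := (Subgroup.mul_mem_cancel_right _ hyp).1 h1
  set c := chain y s (p - 1)
  have hc : c ∉ L (i + (p - 1) + 1) := h.chain_notMem (by omega) hy hy' (p - 1) (by omega)
    (hs.mono (by omega))
  rw [show i + (p - 1) + 1 = i + p by omega] at hc
  have h3 : c ^ hpConst p ∈ L (i + p) := by
    have h4 := Subgroup.Normal.conj_mem (H := L (i + p)) inferInstance _ h2 (s ^ p)⁻¹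
    rwa [show (s ^ p)⁻¹ * (s ^ p * c ^ hpConst p * (s ^ p)⁻¹) * (s ^ p)⁻¹⁻¹ = c ^ hpConst p by group] at h4
  have h4 : c ^ p ∈ L (i + p) := by
    have h5 := h.pow_layer (show 1 ≤ i + (p - 1) by omega) (h.chain_level (s := s) hy (p - 1))
    rwa [show i + (p - 1) + 1 = i + p by omega] at h5
  refine hc ?_
  obtain ⟨a', b', hab⟩ : IsCoprime (p : ℤ) (hpConst p) :=
    (Nat.prime_iff_prime_int.1 hp.out).coprime_iff_not_dvd.2 (not_dvd_hpConst p)
  have h6 : c = (c ^ p) ^ a' * (c ^ hpConst p) ^ b' := by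
    rw [← zpow_natCast, ← zpow_mul, ← zpow_mul, ← zpow_add,
      show (p : ℤ) * a' + hpConst p * b' = 1 by linarith, zpow_one]
  rw [h6]
  exact mul_mem (zpow_mem h4 _) (zpow_mem h3 _)

end IsMax

end CfsgLib.PGroup.MaxClassPower
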