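import Cfsg.Agent.Lib.PGroup.MaxClassPower.Structure

/-!
# Uniform elements

The two-step centralisers repeat with period `p - 1`, so at most `p - 1` of them differ and some
element avoids all of them.
-/

set_option autoImplicit false
set_option linter.style.haveILetI false

namespace CfsgLib.PGroup.MaxClassPower

open Subgroup
open scoped commutatorElement
open CfsgLib.Fusion

universe u

variable {p : ℕ} [hp : Fact p.Prime]

/-- A group is not the union of at most `p` proper subgroups. -/
theorem not_union_proper {G : Type u} [Group G] [Finite G] (hG : IsPGroup p G) {m : ℕ} (hm : m ≤ p)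
    (C : Fin m → Subgroup G) (hC : ∀ i, C i ≠ ⊤) : ∃ s, ∀ i, s ∉ C i := by
  classical
  rcases Nat.eq_zero_or_pos m with rfl | hmpos
  · exact ⟨1, fun i => i.elim0⟩
  by_contra hc
  push Not at hc
  haveI := Fintype.ofFinite G
  have hsub : (Finset.univ : Finset G).erase 1 ⊆
      Finset.univ.biUnion fun i : Fin m => ((Finset.univ : Finset G).filter (· ∈ C i)).erase 1 := by
    intro x hx
    obtain ⟨i, hi⟩ := hc x
    simp only [Finset.mem_biUnion, Finset.mem_univ, true_and, Finset.mem_erase, Finset.mem_filter]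
    exact ⟨i, (Finset.mem_erase.mp hx).1, hi⟩
  have h1 := (Finset.card_le_card hsub).trans Finset.card_biUnion_le
  have h2 : ∀ i : Fin m, p * ((((Finset.univ : Finset G).filter (· ∈ C i)).erase 1).card + 1) ≤ Nat.card G := by
    intro i
    rw [Finset.card_erase_add_one (by simp [one_mem]), ← Fintype.card_subtype, ← Nat.card_eq_fintype_card]
    have := MaxClass.card_mul_le_of_lt hG (lt_of_le_of_ne le_top (hC i))
    rw [card_top] at this
    exact this
  have h3 : p * ∑ i : Fin m, (((Finset.univ : Finset G).filter (· ∈ C i)).erase 1).card ≤ m * (Nat.card G - p) := by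
    rw [Finset.mul_sum]
    refine le_trans (Finset.sum_le_card_nsmul _ _ (Nat.card G - p) fun i _ => ?_) (by simp)
    have := h2 i
    rw [mul_add, mul_one] at this
    omega
  rw [Finset.card_erase_of_mem (Finset.mem_univ _), Finset.card_univ, ← Nat.card_eq_fintype_card] at h1
  have h4 := Nat.mul_le_mul_left p h1
  have h5 := (h4.trans h3).trans (Nat.mul_le_mul_right _ hm)
  have h6 := h2 ⟨0, hmpos⟩
  rw [mul_add, mul_one] at h6
  have h7 := Nat.le_of_mul_le_mul_left h5 hp.out.pos
  have := hp.out.two_le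
  omega

variable {G : Type u} [Group G]

local notation "L" => Subgroup.lowerCentralSeries (⊤ : Subgroup G)

theorem map_L (N : Subgroup G) [N.Normal] (i : ℕ) :
    Subgroup.lowerCentralSeries (⊤ : Subgroup (G ⧸ N)) i = (L i).map (QuotientGroup.mk' N) := by
  rw [Subgroup.map_lowerCentralSeries, Subgroup.map_top_of_surjective _ (QuotientGroup.mk'_surjective N)]

theorem mem_map_L {N : Subgroup G} [N.Normal] {i : ℕ} (hN : N ≤ L i) {x : G} :
    (x : G ⧸ N) ∈ Subgroup.lowerCentralSeries (⊤ : Subgroup (G ⧸ N)) i ↔ x ∈ L i := by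
  rw [map_L N i]
  constructor
  · rintro ⟨y, hy, hyx⟩
    have : y⁻¹ * x ∈ N := QuotientGroup.eq.1 hyx
    simpa using mul_mem hy (hN this)
  · exact fun hx => ⟨x, hx, rfl⟩

namespace IsMax

variable [Finite G] {m : ℕ} (h : IsMax G p m)
include h

theorem quotient {j : ℕ} (hj : 2 ≤ j) (hj' : j ≤ m - 1) : IsMax (G ⧸ L j) p (j + 1) := by
  refine ⟨?_, by omega, ?_⟩
  · have h1 := Subgroup.card_eq_card_quotient_mul_card_subgroup (L j)
    rw [h.card, h.card_L (by omega) hj', show m = j + 1 + (m - 1 - j) by omega, pow_add] at h1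
    exact (Nat.eq_of_mul_eq_mul_right (pow_pos hp.out.pos _)
      (by simpa [show j + 1 + (m - 1 - j) - 1 - j = m - 1 - j by omega] using h1)).symm
  · rw [show j + 1 - 2 = j - 1 by omega, map_L, Ne, Subgroup.map_eq_bot_iff, QuotientGroup.ker_mk']
    intro hle
    have h2 := h.L_lt (show j - 1 ≤ m - 2 by omega)
    rw [show j - 1 + 1 = j by omega] at h2
    exact h2.not_ge hle

theorem mem_twoStep_quotient {j i : ℕ} (hij : i + 2 ≤ j) {g : G} :
    (g : G ⧸ L j) ∈ twoStep (G ⧸ L j) i ↔ g ∈ twoStep G i := by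
  have hle : ∀ k, k ≤ j → L j ≤ L k := fun k hk => Subgroup.lowerCentralSeries_antitone _ hk
  constructor
  · intro hg b hb
    have := hg (b : G ⧸ L j) ((mem_map_L (hle i (by omega))).2 hb)
    rw [show ⁅(g : G ⧸ L j), (b : G ⧸ L j)⁆ = ((⁅g, b⁆ : G) : G ⧸ L j) from
      (map_commutatorElement (QuotientGroup.mk' (L j)) g b).symm] at this
    exact (mem_map_L (hle _ hij)).1 this
  · intro hg b hb
    rw [map_L] at hb
    obtain ⟨b, hb, rfl⟩ := hb
    rw [← QuotientGroup.mk'_apply, ← map_commutatorElement, QuotientGroup.mk'_apply]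
    exact (mem_map_L (hle _ hij)).2 (hg b hb)

theorem twoStep_eq_of_le {i j : ℕ} (hi : 1 ≤ i) (hi' : i + 1 ≤ m - 2) (hj : j + 1 ≤ m - 2)
    (hle : twoStep G i ≤ twoStep G j) : twoStep G i = twoStep G j := by
  refine le_antisymm hle fun g hg => by_contra fun hn => h.twoStep_ne_top hj ?_
  rw [eq_top_iff, ← h.twoStep_sup hi hi' hn]
  exact sup_le hle (zpowers_le.2 hg)

theorem exists_good_of_periodic {k : ℕ} (hk : k + 3 ≤ m)
    (hper : ∀ i, 1 ≤ i → i + (p - 1) ≤ k → twoStep G i = twoStep G (i + (p - 1))) : ∃ s : G, Good s k := by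
  have hp1 := hp.out.two_le
  obtain ⟨s, hs⟩ := not_union_proper h.isPGroup (show min k (p - 1) + 1 ≤ p by omega)
    (fun i : Fin (min k (p - 1) + 1) => if (i : ℕ) = 0 then L 1 else twoStep G i) (fun i => by
      split_ifs with hi
      · intro he
        have h1 := h.card_L le_rfl (by omega)
        rw [he, Subgroup.card_top, h.card] at h1
        exact absurd (Nat.pow_right_injective hp1 h1) (by omega)
      · exact h.twoStep_ne_top (by have := i.2; omega))
  refine ⟨s, by simpa using hs ⟨0, by omega⟩, fun i hi hik => ?_⟩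
  induction i using Nat.strong_induction_on with
  | _ i ih =>
    rcases Nat.lt_or_ge i p with hlt | hge
    · have h2 := hs ⟨i, by omega⟩
      simpa [show i ≠ 0 by omega] using h2
    · rw [show i = i - (p - 1) + (p - 1) by omega, ← hper _ (by omega) (by omega)]
      exact ih _ (by omega) (by omega) (by omega)

/-- The step of periodicity. -/
theorem twoStep_le {i : ℕ} (hi : 1 ≤ i) (hk : i + (p - 1) + 3 = m) {s : G} (hs : Good s (m - 4)) :
    twoStep G i ≤ twoStep G (i + (p - 1)) := by
  have hp1 := hp.out.two_le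
  have hI2 := h.ident_two (by omega) hs
  have hpow2 := h.pow_mem (by omega) hI2
  have hexp : ∀ x ∈ L (i + 2), x ^ p = 1 := fun x hx => by
    have h1 := hpow2 (i + 2) (by omega) x hx
    rwa [h.L_bot (by omega), mem_bot] at h1
  -- the power of an element of level `i`
  obtain ⟨y, hy, hy'⟩ := SetLike.exists_of_lt (h.L_lt (show i ≤ m - 2 by omega))
  set j := m - 2 with hj
  have hQ := h.quotient (j := j) (by omega) (by omega)
  haveI : Finite (G ⧸ L j) := inferInstance
  have hsQ : Good (s : G ⧸ L j) (j + 1 - 3) := by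
    refine ⟨fun e => hs.1 ((mem_map_L (Subgroup.lowerCentralSeries_antitone _ (by omega))).1 e), ?_⟩
    intro l hl hl'
    rw [h.mem_twoStep_quotient (by omega)]
    exact hs.2 l hl (by omega)
  have hIQ := hQ.ident_one hsQ
  have hle : ∀ k, k ≤ j → L j ≤ L k := fun k hk => Subgroup.lowerCentralSeries_antitone _ hk
  have hyp : y ^ p ∈ L (i + (p - 1)) := by
    have h1 := hQ.pow_mem le_rfl hIQ i hi (y : G ⧸ L j) ((mem_map_L (hle _ (by omega))).2 hy)
    rw [← QuotientGroup.mk_pow, show i + p - 1 = i + (p - 1) by omega] at h1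
    exact (mem_map_L (hle _ (by omega))).1 h1
  have hyp' : y ^ p ∉ L (i + (p - 1) + 1) := by
    have h1 := hQ.pow_notMem le_rfl hIQ hi ((mem_map_L (hle _ (by omega))).2 hy)
      (fun e => hy' ((mem_map_L (hle _ (by omega))).1 e)) (by omega) (hsQ.mono (by omega))
    intro e
    refine h1 ?_
    rw [← QuotientGroup.mk_pow]
    refine (mem_map_L (hle _ (by omega))).2 ?_
    rwa [show i + p = i + (p - 1) + 1 by omega]
  intro v hv
  refine h.mem_twoStep (by omega) (by omega) hyp hyp' ?_
  set c := ⁅v, y⁆ with hc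
  have hcL : c ∈ L (i + 2) := hv y hy
  -- the subgroup generated by `c` and `y`
  set R := closure ({c, y} : Set G)
  have hRi : R ≤ L i := (closure_le _).2 (by
    rintro z (rfl | rfl)
    · exact Subgroup.lowerCentralSeries_antitone _ (by omega) hcL
    · exact hy)
  have hR1 : ⁅R, R⁆ ≤ L (i + 2 + i + 1) := pair_commutator_le (comm_mem_add hcL hy)
  have hRl : ∀ k, R.lowerCentralSeries (k + 1) ≤ L (i + 2 + i + 1 + k * (i + 1)) := by
    intro k
    induction k with
    | zero =>
      rw [Subgroup.lowerCentralSeries_succ, Subgroup.lowerCentralSeries_zero, zero_mul, add_zero]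
      exact hR1
    | succ k ih =>
      rw [Subgroup.lowerCentralSeries_succ]
      refine (commutator_mono ih hRi).trans ((PolySeq.commutator_lcs_le _ _).trans
        (le_of_eq ?_))
      congr 1
      ring
  have hcl : Subgroup.lowerCentralSeries (⊤ : Subgroup R) (p - 1) = ⊥ := by
    apply Subgroup.map_injective R.subtype_injective
    rw [top_subtype_lowerCentralSeries, Subgroup.map_bot, eq_bot_iff, ← h.L_bot (le_refl (m - 1))]
    obtain ⟨k, hk'⟩ : ∃ k, p - 1 = k + 1 := ⟨p - 2, by omega⟩
    rw [hk']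
    refine (hRl k).trans (Subgroup.lowerCentralSeries_antitone _ ?_)
    have : k * 1 ≤ k * (i + 1) := Nat.mul_le_mul_left k (by omega)
    omega
  obtain ⟨d, hd, hde⟩ := pow_mul_of_class_lt hcl (⟨c, subset_closure (Or.inl rfl)⟩ : R)
    ⟨y, subset_closure (Or.inr rfl)⟩
  have hd1 : (d : G) = 1 := by
    refine (closure_le (MonoidHom.ker R.subtype)).2 ?_ hd
    rintro _ ⟨x, hx, rfl⟩
    have h1 : (x : G) ∈ ⁅R, R⁆ := by
      have h2 := Subgroup.mem_map_of_mem R.subtype hx
      rwa [Subgroup.map_commutator, ← MonoidHom.range_eq_map, Subgroup.range_subtype] at h2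
    exact hexp _ (Subgroup.lowerCentralSeries_antitone _ (by omega) (hR1 h1))
  have hmain : (c * y) ^ p = y ^ p := by
    have h1 := congrArg Subtype.val hde
    simp only [SubgroupClass.coe_pow, Subgroup.coe_mul] at h1
    rw [h1, hd1, hexp c hcL, one_mul, mul_one]
  have hfin : ⁅v, y ^ p⁆ = 1 := by
    rw [commutatorElement_def, ← conj_pow, show v * y * v⁻¹ = c * y by
      rw [hc, commutatorElement_def]; group, hmain, mul_inv_cancel]
  rw [hfin]
  exact one_mem _

end IsMax

/-- The two-step centralisers are periodic. -/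
theorem periodic : ∀ (m : ℕ) (G : Type u) [Group G] [Finite G], IsMax G p m →
    ∀ i, 1 ≤ i → i + (p - 1) + 3 ≤ m → twoStep G i = twoStep G (i + (p - 1)) := by
  intro m
  induction m using Nat.strong_induction_on with
  | _ m ih =>
    intro G _ _ h i hi him
    set j := m - 2 with hj
    have hQ := h.quotient (j := j) (by omega) (by omega)
    have hdesc : ∀ l, 1 ≤ l → l + (p - 1) + 4 ≤ m → twoStep G l = twoStep G (l + (p - 1)) := by
      intro l hl hlm
      ext g
      rw [← h.mem_twoStep_quotient (j := j) (by omega), ← h.mem_twoStep_quotient (j := j) (by omega),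
        ih (j + 1) (by omega) _ hQ l hl (by omega)]
    rcases Nat.lt_or_ge (i + (p - 1) + 3) m with hlt | hge
    · exact hdesc i hi (by omega)
    obtain ⟨s, hs⟩ := h.exists_good_of_periodic (k := m - 4) (by omega)
      fun l hl hlk => hdesc l hl (by omega)
    exact h.twoStep_eq_of_le hi (by omega) (by omega) (h.twoStep_le hi (by omega) hs)

theorem IsMax.exists_uniform [Finite G] {m : ℕ} (h : IsMax G p m) : ∃ s : G, Good s (m - 3) :=
  h.exists_good_of_periodic (by have := h.three_le; omega) fun i hi him => periodic m G h i hi (by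
    have := h.three_le; omega)

end CfsgLib.PGroup.MaxClassPower
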